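import Cfsg.Agent.Lib.IsometryTwoQ.Pieces

/-!
Preferred pieces with a quadratic form in characteristic two, and the relations at small exponents.
-/

set_option autoImplicit false
set_option linter.unusedSectionVars false

namespace CfsgLib.IsometryTwoQ

open Polynomial CfsgLib.IsometryClasses CfsgLib.IsometryTwo

universe u v

variable {K : Type u} [Field K] [Fintype K] {V : Type v} [AddCommGroup V] [Module K V]
  {Q : V → K} {B : V →ₗ[K] V →ₗ[K] K} {x : Module.End K V} {N : ℕ} {U : Submodule K V} {e : ℕ}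

theorem act_uu_one (z : V) : act x ((uu K) ^ 1) z = 0 ↔ x z = z := by
  rw [pow_one]
  simp [act, sub_eq_zero]

theorem gram_one (a b : V) : gram B x a b ((uu K) ^ (1 - 1)) = B a b := by
  rw [gram_apply]
  simp [act]

theorem pair_one (h : Ctx2 B x N) {a b : V} (ha : x a = a) (hb : x b = b) (hm : B b a = 1) :
    Pair B x 1 a b :=
  ⟨le_rfl, (act_uu_one a).mpr ha, (act_uu_one b).mpr hb, by rw [gram_one, hm],
    by rw [gram_one, h.alt], by rw [gram_one, h.alt]⟩

theorem wq_of_pair {a b : V} (hp : Pair B x 1 a b) {s : Bool} (h1 : Q a = if s then 1 else 0) (h2 : Q b = tv K s) :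
    IsWQ Q B x 1 s a b := by
  refine ⟨?_, fun _ => h1, fun _ => h2, fun _ => odd_one⟩
  rw [show (s && decide (3 ≤ 1)) = false by simp]
  exact ⟨hp, fun h => absurd h (by omega), fun h => absurd h (by omega), by simp⟩

/-- A fixed singular vector with a fixed partner gives an untwisted pair. -/
theorem wq_false_of_zero (h : CtxQ Q B x N) {a b : V} (ha : x a = a) (hb : x b = b) (hm : B b a = 1)
    (ma : a ∈ U) (mb : b ∈ U) (hq : Q a = 0) : ∃ z ∈ U, ∃ w ∈ U, IsWQ Q B x 1 false z w := by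
  refine ⟨a, ma, b + Q b • a, add_mem mb (U.smul_mem _ ma), wq_of_pair (pair_one h.toCtx2 ha ?_ ?_) (by simpa using hq) ?_⟩
  · rw [map_add, map_smul, ha, hb]
  · rw [map_add, map_smul, LinearMap.add_apply, LinearMap.smul_apply, hm, h.alt, smul_zero, add_zero]
  · rw [h.qadd, h.qsmul, hq, map_smul, hm]
    simp [tv]
    linear_combination Q b * h.two

/-- A pair of exponent one gives a pair piece. -/
theorem exists_WQ_one (h : CtxQ Q B x N) {z w : V} (hp : Pair B x 1 z w) (mz : z ∈ U) (mw : w ∈ U) :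
    (∃ z ∈ U, ∃ w ∈ U, IsWQ Q B x 1 false z w) ∨ ∃ z ∈ U, ∃ w ∈ U, IsWQ Q B x 1 true z w := by
  have hz := (act_uu_one z).mp hp.kill_z
  have hw := (act_uu_one w).mp hp.kill_w
  have hm : B w z = 1 := by rw [← gram_one (B := B) (x := x) w z]; exact hp.m
  by_cases h0 : Q z = 0
  · exact Or.inl (wq_false_of_zero h hz hw hm mz mw h0)
  obtain ⟨c, hc⟩ := exists_sq h.two (Q z)⁻¹
  have hc0 : c ≠ 0 := fun hh => inv_ne_zero h0 (by rw [← hc, hh, mul_zero])
  set z₁ := c • z with hz₁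
  set w₁ := c⁻¹ • w with hw₁
  have fz : x z₁ = z₁ := by rw [hz₁, map_smul, hz]
  have fw : x w₁ = w₁ := by rw [hw₁, map_smul, hw]
  have hm1 : B w₁ z₁ = 1 := by
    rw [hz₁, hw₁, map_smul, map_smul, LinearMap.smul_apply, hm, smul_eq_mul, smul_eq_mul, mul_one,
      mul_inv_cancel₀ hc0]
  have hq1 : Q z₁ = 1 := by rw [hz₁, h.qsmul, hc, inv_mul_cancel₀ h0]
  have mz₁ : z₁ ∈ U := U.smul_mem _ mz
  have mw₁ : w₁ ∈ U := U.smul_mem _ mw
  clear_value z₁ w₁
  have hq : ∀ l : K, Q (w₁ + l • z₁) = Q w₁ + (l + l * l) := fun l => by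
    rw [h.qadd, h.qsmul, hq1, map_smul, hm1, smul_eq_mul]
    ring
  have hxl : ∀ l : K, x (w₁ + l • z₁) = w₁ + l • z₁ := fun l => by rw [map_add, map_smul, fz, fw]
  have hBl : ∀ l : K, B (w₁ + l • z₁) z₁ = 1 := fun l => by
    rw [map_add, map_smul, LinearMap.add_apply, LinearMap.smul_apply, hm1, h.alt, smul_zero, add_zero]
  rcases as_dichotomy h.two (Q w₁) with ⟨l, hl⟩ | ⟨l, hl⟩
  · refine Or.inl (wq_false_of_zero h (hxl l) fz ?_ (add_mem mw₁ (U.smul_mem _ mz₁)) mz₁ ((hq l).trans hl))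
    rw [h.symm, hBl]
  · exact Or.inr ⟨z₁, mz₁, w₁ + l • z₁, add_mem mw₁ (U.smul_mem _ mz₁),
      wq_of_pair (pair_one h.toCtx2 fz (hxl l) (hBl l)) (by simpa using hq1) (by rw [hq, hl]; simp [tv])⟩

theorem gram_two (a b : V) : gram B x a b ((uu K) ^ (2 - 1)) = B a (act x (uu K) b) := by
  rw [gram_apply, show 2 - 1 = 1 from rfl, pow_one]

theorem vq_two {v : V} (hk : act x ((uu K) ^ 2) v = 0) (hq : gram B x v v ((uu K) ^ (2 - 1)) = 1) {s : Bool}
    (hQ : Q v = tv K s) : IsVQ Q B x 2 s v := by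
  refine ⟨?_, fun _ => hQ⟩
  rw [show (s && decide (4 ≤ 2)) = false by simp]
  exact ⟨le_rfl, even_two, hk, hq, fun h => absurd h (by omega), by simp⟩

/-- A cyclic piece of exponent two. -/
theorem exists_VQ_two (h : CtxQ Q B x N) (hU : Inv x U) {v : V} (hv : v ∈ U) (hk : act x ((uu K) ^ 2) v = 0)
    (hq : gram B x v v ((uu K) ^ (2 - 1)) = 1) :
    (∃ v ∈ U, IsVQ Q B x 2 false v) ∨ ∃ v ∈ U, IsVQ Q B x 2 true v := by
  have hkk : act x (uu K) (act x (uu K) v) = 0 := by rw [← act_mul, ← pow_two, hk]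
  have mk : ∀ (l : K) (s : Bool), Q v + (l + l * l) = tv K s → ∃ v ∈ U, IsVQ Q B x 2 s v := fun l s hl => by
    set v₁ := v + l • act x (uu K) v with hv₁
    have hu : act x (uu K) v₁ = act x (uu K) v := by
      rw [hv₁, act, map_add, map_smul, ← act, ← act, hkk, smul_zero, add_zero]
    refine ⟨v₁, add_mem hv (U.smul_mem _ (hU.act_mem _ hv)), vq_two ?_ ?_ ?_⟩
    · rw [pow_two, act_mul, hu, hkk]
    · rw [gram_two, hu, hv₁, map_add, map_smul, LinearMap.add_apply, LinearMap.smul_apply, h.alt, smul_zero,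
        add_zero, ← gram_two, hq]
    · have hq' : gram B x v v (uu K) = 1 := by simpa using hq
      rw [hv₁, h.qadd, h.qsmul, h.q_uu, hq', map_smul, ← gram_apply, hq', smul_eq_mul, ← hl]
      ring
  rcases as_dichotomy h.two (Q v) with ⟨l, hl⟩ | ⟨l, hl⟩
  · exact Or.inl (mk l false (by rw [hl]; simp [tv]))
  · exact Or.inr (mk l true (by rw [hl]; simp [tv]))

/-- Two twisted cyclic pieces of exponent two contain an untwisted one. -/
theorem untwist_two_low (h : CtxQ Q B x N) (hU : Inv x U) {v₁ v₂ : V} (h₁ : IsVQ Q B x 2 true v₁)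
    (h₂ : IsVQ Q B x 2 true v₂) (m₁ : v₁ ∈ U) (m₂ : v₂ ∈ U) (o12 : ∀ r, gram B x v₁ v₂ r = 0) :
    ∃ v ∈ U, IsVQ Q B x 2 false v := by
  set a := tau0 K with ha
  set b := 1 + a with hb
  have q1 : gram B x v₁ v₁ (uu K) = 1 := by simpa using h₁.base.q
  have q2 : gram B x v₂ v₂ (uu K) = 1 := by simpa using h₂.base.q
  have hQ1 : Q v₁ = a := by rw [h₁.q2 rfl]; simp [tv, ha]
  have hQ2 : Q v₂ = a := by rw [h₂.q2 rfl]; simp [tv, ha]
  have hkk : act x (uu K) (act x (uu K) v₂) = 0 := by rw [← act_mul, ← pow_two, h₂.base.kill]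
  have o21 : ∀ r, gram B x v₂ v₁ r = 0 := fun r => by rw [h.gram_swap, o12]
  set v := a • v₁ + (b • v₂ + act x (uu K) v₂) with hv
  have hu : act x (uu K) v = a • act x (uu K) v₁ + b • act x (uu K) v₂ := by
    rw [hv]
    simp only [act, map_add, map_smul]
    rw [show (aeval x (uu K)) ((aeval x (uu K)) v₂) = 0 from hkk, add_zero]
  refine ⟨v, add_mem (U.smul_mem _ m₁) (add_mem (U.smul_mem _ m₂) (hU.act_mem _ m₂)), vq_two ?_ ?_ ?_⟩
  · rw [pow_two, act_mul, hu]
    simp only [act, map_add, map_smul]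
    rw [show (aeval x (uu K)) ((aeval x (uu K)) v₂) = 0 from hkk,
      show (aeval x (uu K)) ((aeval x (uu K)) v₁) = 0 by
        have := h₁.base.kill
        rwa [pow_two, act_mul] at this, smul_zero, smul_zero, add_zero]
  · rw [gram_two, hu, hv]
    simp only [map_add, map_smul, LinearMap.add_apply, LinearMap.smul_apply, smul_eq_mul, h.alt]
    simp only [← gram_apply, h.gram_act_left, o12, o21, q1, q2]
    rw [hb]
    linear_combination (a * a + a) * h.two
  · have o : B (a • v₁) (b • v₂ + act x (uu K) v₂) = 0 := by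
      simp only [map_add, map_smul, LinearMap.smul_apply]
      rw [← gram_apply, o12, show B v₁ v₂ = gram B x v₁ v₂ 1 by simp [gram_apply, act], o12]
      simp
    rw [hv, h.qadd, o, h.qadd, h.qsmul, h.qsmul, h.q_uu, map_smul, LinearMap.smul_apply, ← gram_apply, q2, hQ1,
      hQ2, hb, show tv K false = 0 by simp [tv], smul_eq_mul]
    linear_combination (a * a * a + a * a + a + 1) * h.two

/-- A twisted cyclic piece of exponent two and a fixed pair. -/
theorem untwist_pair_low (h : CtxQ Q B x N) {v z w : V} {s : Bool} (hv : IsVQ Q B x 2 true v)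
    (hz : IsWQ Q B x 1 s z w) (mv : v ∈ U) (mz : z ∈ U) (mw : w ∈ U) (oz : ∀ r, gram B x v z r = 0)
    (ow : ∀ r, gram B x v w r = 0) : ∃ v ∈ U, IsVQ Q B x 2 false v := by
  have fz := (act_uu_one z).mp hz.base.kill_z
  have fw := (act_uu_one w).mp hz.base.kill_w
  have hm : B w z = 1 := by
    have := hz.base.m
    rwa [gram_one] at this
  have hqz := hz.qz1 rfl
  have hqw := hz.qw1 rfl
  obtain ⟨y, my, fy, qy, oy⟩ : ∃ y ∈ U, x y = y ∧ Q y = tau0 K ∧ ∀ r, gram B x v y r = 0 := by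
    cases s
    · refine ⟨z + tau0 K • w, add_mem mz (U.smul_mem _ mw), by rw [map_add, map_smul, fz, fw], ?_,
        fun r => by rw [gram_add_right, gram_smul_right, oz, ow, mul_zero, add_zero]⟩
      rw [h.qadd, h.qsmul, hqz, hqw, map_smul, h.symm z w, hm]
      simp [tv]
    · obtain ⟨c, hc⟩ := exists_sq h.two (tau0 K)
      refine ⟨c • z, U.smul_mem _ mz, by rw [map_smul, fz], ?_, fun r => by rw [gram_smul_right, oz, mul_zero]⟩
      rw [h.qsmul, hqz, hc]
      simp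
  have hy1 : act x (uu K) y = 0 := by
    have := (act_uu_one (x := x) y).mpr fy
    rwa [pow_one] at this
  have hu : act x (uu K) (v + y) = act x (uu K) v := by rw [act, map_add, ← act, ← act, hy1, add_zero]
  refine ⟨v + y, add_mem mv my, vq_two ?_ ?_ ?_⟩
  · rw [pow_two, act_mul, hu, ← act_mul, ← pow_two, hv.base.kill]
  · rw [gram_two, hu, map_add, LinearMap.add_apply, ← gram_apply, ← gram_apply, h.gram_swap y v, oy, add_zero]
    simpa using hv.base.q
  · rw [h.qadd, hv.q2 rfl, qy, show B v y = gram B x v y 1 by simp [gram_apply, act], oy]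
    simp only [tv, if_true, Bool.false_eq_true, if_false]
    linear_combination tau0 K * h.two

/-- A twisted fixed pair and an orthogonal fixed vector of value one. -/
theorem untwist_W_low (h : CtxQ Q B x N) {z w y : V} (hz : IsWQ Q B x 1 true z w) (mz : z ∈ U) (mw : w ∈ U)
    (my : y ∈ U) (fy : x y = y) (qy : Q y = 1) (oz : ∀ r, gram B x z y r = 0) (ow : ∀ r, gram B x w y r = 0) :
    ∃ z ∈ U, ∃ w ∈ U, IsWQ Q B x 1 false z w := by
  have g1 : ∀ a b : V, B a b = gram B x a b 1 := fun a b => by simp [gram_apply, act]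
  refine wq_false_of_zero h (a := z + y) (b := w) ?_ ((act_uu_one w).mp hz.base.kill_w) ?_ (add_mem mz my) mw ?_
  · rw [map_add, (act_uu_one z).mp hz.base.kill_z, fy]
  · have hm := hz.base.m
    rw [gram_one] at hm
    rw [map_add, hm, g1, ow, add_zero]
  · rw [h.qadd, hz.qz1 rfl, qy, g1, oz]
    simp only [if_true]
    linear_combination h.two

theorem wq_of_isW {s : Bool} {z w : V} (hv : IsW B x e s z w) (he : 2 ≤ e) (hs : s = true → Odd e ∧ 3 ≤ e) :
    IsWQ Q B x e s z w := by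
  refine ⟨?_, fun h => absurd h (by omega), fun h => absurd h (by omega), fun h => (hs h).1⟩
  rw [show (s && decide (3 ≤ e)) = s by cases s <;> simp_all]
  exact hv

theorem vq_of_isV {s : Bool} {v : V} (hv : IsV B x e s v) (he : 4 ≤ e) : IsVQ Q B x e s v := by
  refine ⟨?_, fun h => absurd h (by omega)⟩
  rw [show (s && decide (4 ≤ e)) = s by simp [he]]
  exact hv

theorem IsVQ.isV {s : Bool} {v : V} (hv : IsVQ Q B x e s v) (he : 4 ≤ e) : IsV B x e s v := by
  have := hv.base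
  rwa [show (s && decide (4 ≤ e)) = s by simp [he]] at this

theorem IsWQ.isW {s : Bool} {z w : V} (hv : IsWQ Q B x e s z w) (he : 3 ≤ e) : IsW B x e s z w := by
  have := hv.base
  rwa [show (s && decide (3 ≤ e)) = s by simp [he]] at this

/-- What is known about a chosen piece. -/
def GoodQ (Q : V → K) (B : V →ₗ[K] V →ₗ[K] K) (x : Module.End K V) (U : Submodule K V) : Tag2 K → Prop
  | .plain P e => P = uu K * uu K → Max x U e
  | .cyc e s => Max x U e ∧ (∀ z ∈ U, ∀ w ∈ U, ¬ Pair B x e z w) ∧ (s = true → ∀ v ∈ U, ¬ IsVQ Q B x e false v)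
  | .tw e => Max x U e ∧ ∀ z ∈ U, ∀ w ∈ U, ¬ IsWQ Q B x e false z w

theorem exists_pieceQ (h : CtxQ Q B x N) (hU : Inv x U) (hnd : Nd B U) (hne : U ≠ ⊥) :
    ∃ t W, IsPieceQ Q B x t W ∧ W ≤ U ∧ W ≠ ⊥ ∧ GoodQ Q B x U t := by
  classical
  have hrange : ∀ z ∈ U, LinearMap.range (orb x z) ≤ U := by
    rintro z hz - ⟨a, rfl⟩
    exact hU.act_mem a hz
  have nbot : ∀ {z : V} {W : Submodule K V}, z ≠ 0 → z ∈ W → W ≠ ⊥ := fun hz hm h0 => hz (by
    rwa [h0, Submodule.mem_bot] at hm)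
  obtain ⟨t, W, hW, hWU, hWne, hgood⟩ := exists_piece2 h.toCtx2 hU hnd hne
  rcases t with ⟨P, e⟩ | ⟨e, s⟩ | e
  · rcases hW with ⟨v, hv, hWe⟩ | ⟨p, v, w, hv, hP, hWe⟩ | ⟨z, w, hv, hP, hWe⟩
    · exact ⟨.plain P e, W, Or.inl ⟨v, hv, hWe⟩, hWU, hWne, hgood⟩
    · exact ⟨.plain P e, W, Or.inr (Or.inl ⟨p, v, w, hv, hP, hWe⟩), hWU, hWne, hgood⟩
    · by_cases he : 2 ≤ e
      · exact ⟨.plain P e, W, Or.inr (Or.inr ⟨z, w, wq_of_isW hv he (by simp), hP, hWe⟩), hWU, hWne, hgood⟩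
      have he1 : e = 1 := by have := hv.he; omega
      subst he1 hWe hP
      have mk : ∀ (s : Bool) {a b : V}, a ∈ U → b ∈ U → IsWQ Q B x 1 s a b →
          LinearMap.range (orb x a) ⊔ LinearMap.range (orb x b) ≤ U ∧
          LinearMap.range (orb x a) ⊔ LinearMap.range (orb x b) ≠ ⊥ := fun s a b ha hb hab =>
        ⟨sup_le (hrange _ ha) (hrange _ hb), nbot (z := a) (fun h0 => by
          have := hab.base.m
          rw [gram_one, h0, map_zero] at this
          exact zero_ne_one this) (Submodule.mem_sup_left (mem_orb a))⟩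
      by_cases hW0 : ∃ z ∈ U, ∃ w ∈ U, IsWQ Q B x 1 false z w
      · obtain ⟨a, ha, b, hb, hab⟩ := hW0
        exact ⟨.plain (uu K * uu K) 1, _, Or.inr (Or.inr ⟨a, b, hab, rfl, rfl⟩), (mk _ ha hb hab).1,
          (mk _ ha hb hab).2, hgood⟩
      · rcases exists_WQ_one h hv.toPair (hWU (Submodule.mem_sup_left (mem_orb z)))
          (hWU (Submodule.mem_sup_right (mem_orb w))) with h1 | ⟨a, ha, b, hb, hab⟩
        · exact absurd h1 hW0
        · exact ⟨.tw 1, _, ⟨a, b, hab, rfl⟩, (mk _ ha hb hab).1, (mk _ ha hb hab).2, hgood rfl,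
            fun z hz w hw hh => hW0 ⟨z, hz, w, hw, hh⟩⟩
  · obtain ⟨v, hv, hWe⟩ := hW
    obtain ⟨hM, hnp, hntw⟩ := hgood
    by_cases he : 4 ≤ e
    · exact ⟨.cyc e s, W, ⟨v, vq_of_isV hv he, hWe⟩, hWU, hWne, hM, hnp,
        fun hs z hz hh => hntw hs z hz (hh.isV he)⟩
    have he2 : e = 2 := by obtain ⟨k, hk⟩ := hv.ev; have := hv.he; omega
    subst he2 hWe
    have mk : ∀ (s : Bool) {a : V}, a ∈ U → IsVQ Q B x 2 s a →
        LinearMap.range (orb x a) ≤ U ∧ LinearMap.range (orb x a) ≠ ⊥ := fun s a ha hab =>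
      ⟨hrange a ha, nbot (z := a) (fun h0 => by
        have := hab.base.q
        rw [gram_two, h0, map_zero, LinearMap.zero_apply] at this
        exact zero_ne_one this) (mem_orb a)⟩
    by_cases hV0 : ∃ v ∈ U, IsVQ Q B x 2 false v
    · obtain ⟨a, ha, hab⟩ := hV0
      exact ⟨.cyc 2 false, _, ⟨a, hab, rfl⟩, (mk _ ha hab).1, (mk _ ha hab).2, hM, hnp, by simp⟩
    · rcases exists_VQ_two h hU (hWU (mem_orb v)) hv.kill hv.q with h1 | ⟨a, ha, hab⟩
      · exact absurd h1 hV0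
      · exact ⟨.cyc 2 true, _, ⟨a, hab, rfl⟩, (mk _ ha hab).1, (mk _ ha hab).2, hM, hnp,
          fun _ z hz hh => hV0 ⟨z, hz, hh⟩⟩
  · obtain ⟨z, w, hv, hWe⟩ := hW
    obtain ⟨ho, he⟩ := hv.hs rfl
    obtain ⟨hM, hntw⟩ := hgood
    exact ⟨.tw e, W, ⟨z, w, wq_of_isW hv (by omega) (fun _ => ⟨ho, he⟩), hWe⟩, hWU, hWne, hM,
      fun a ha b hb hh => hntw a ha b hb (hh.isW he)⟩

end CfsgLib.IsometryTwoQ
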