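import Cfsg.Agent.Lib.IsometryTwo.Count

/-!
Numerical bounds for the invariants of orthogonal isometries in characteristic two.
-/

set_option autoImplicit false

namespace CfsgLib.IsometryTwoQ

open CfsgLib.IsometryTwo

/-- Presence at the last level. -/
def lastQ : (K : ℕ) → (Fin K → Tok) → Bool
  | 0, _ => false
  | K + 1, t => pres (t (Fin.last K))

/-- Admissible sequences. -/
def okQ : (K : ℕ) → (Fin K → Tok) → Bool
  | 0, _ => true
  | K + 1, t => okQ K (Fin.init t) && allowed (lastQ K (Fin.init t)) (t (Fin.last K))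

/-- Presence at the previous level. -/
def prevQ {K : ℕ} (t : ℕ → Tok) (i : Fin K) : Bool := if i.val = 0 then false else pres (t (i.val - 1))

theorem okQ_of_forall : ∀ (K : ℕ) (t : ℕ → Tok), (∀ i : Fin K, allowed (prevQ t i) (t i) = true) →
    okQ K (fun i : Fin K => t i) = true ∧ lastQ K (fun i : Fin K => t i) =
      (if K = 0 then false else pres (t (K - 1))) := by
  intro K
  induction K with
  | zero => intro t _; exact ⟨rfl, rfl⟩
  | succ K ih =>
    intro t ht
    obtain ⟨h1, h2⟩ := ih t fun i => ht i.castSucc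
    refine ⟨?_, by simp [lastQ]⟩
    have he : Fin.init (fun i : Fin (K + 1) => t i) = fun i : Fin K => t i := rfl
    rw [okQ, he, h1, h2, Bool.true_and]
    exact ht (Fin.last K)

/-- The generating sum with prescribed last presence. -/
def tokQ (K : ℕ) (p : Bool) : ℚ :=
  ∑ t : Fin K → Tok, if okQ K t = true ∧ lastQ K t = p then (1 / 2 : ℚ) ^ wtP K t else 0

theorem okQ_snoc {K : ℕ} (t : Fin K → Tok) (a : Tok) :
    okQ (K + 1) (Fin.snoc t a) = (okQ K t && allowed (lastQ K t) a) := by
  simp [okQ]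

theorem lastQ_snoc {K : ℕ} (t : Fin K → Tok) (a : Tok) : lastQ (K + 1) (Fin.snoc t a) = pres a := by
  simp [lastQ]

theorem tokQ_succ (K : ℕ) (p' : Bool) : tokQ (K + 1) p' =
    ∑ a : Tok, if pres a = p' then (1 / 2 : ℚ) ^ wta K a *
      ((if allowed false a = true then tokQ K false else 0) + if allowed true a = true then tokQ K true else 0)
      else 0 := by
  rw [tokQ, ← (Fin.snocEquiv fun _ => Tok).sum_comp, Fintype.sum_prod_type]
  refine Finset.sum_congr rfl fun a _ => ?_
  have hw : ∀ t : Fin K → Tok, wtP (K + 1) (Fin.snoc t a) = wtP K t + wta K a := fun t => by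
    simp [wtP, Fin.sum_univ_castSucc]
  by_cases hp : pres a = p'
  · rw [if_pos hp]
    simp only [tokQ]
    have e1 : ∀ (c : Prop) [Decidable c] (g : (Fin K → Tok) → ℚ), (if c then ∑ t, g t else 0) = ∑ t, if c then g t else 0 :=
      fun c _ g => by split_ifs <;> simp
    rw [e1, e1, ← Finset.sum_add_distrib, Finset.mul_sum]
    refine Finset.sum_congr rfl fun t _ => ?_
    simp only [Fin.snocEquiv, Equiv.coe_fn_mk, okQ_snoc, lastQ_snoc, hw]
    cases hok : okQ K t <;> cases hl : lastQ K t <;> cases h1 : allowed false a <;> cases h2 : allowed true a <;>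
      simp [hp, pow_add, mul_comm]
  · rw [if_neg hp]
    refine Finset.sum_eq_zero fun t _ => ?_
    simp [Fin.snocEquiv, lastQ_snoc, hp]

theorem tokQ_false (K : ℕ) :
    tokQ (K + 1) false = tokQ K false + tokQ K true + (1 / 2 : ℚ) ^ (2 * K + 1) * tokQ K false := by
  rw [tokQ_succ]
  simp only [Fintype.sum_prod_type, Fintype.sum_bool, Fin.sum_univ_three, pres, allowed, wta]
  simp
  ring

theorem tokQ_true (K : ℕ) : tokQ (K + 1) true =
    ((1 / 2 : ℚ) ^ (K + 1) + (1 / 2 : ℚ) ^ (2 * (K + 1))) * (2 * tokQ K false + tokQ K true) := by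
  rw [tokQ_succ]
  simp only [Fintype.sum_prod_type, Fintype.sum_bool, Fin.sum_univ_three, pres, allowed, wta]
  simp
  ring

theorem tokQ_nonneg (K : ℕ) (p : Bool) : 0 ≤ tokQ K p :=
  Finset.sum_nonneg fun t _ => by split_ifs <;> positivity

theorem tokQ_zero_true : tokQ 0 true = 0 := by simp [tokQ, lastQ]

theorem tokQ_zero_false : tokQ 0 false = 1 := by simp [tokQ, lastQ, okQ, wtP]

theorem tokQ_total_le : ∀ K, tokQ K false + tokQ K true ≤ 738 / 100 := by
  have hinv : ∀ i, (tokQ (14 + i) false + tokQ (14 + i) true) * (1 + 9 / 4 * (1 / 2 : ℚ) ^ (14 + i)) ≤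
      738 / 100 := by
    intro i
    induction i with
    | zero => norm_num [tokQ_false, tokQ_true, tokQ_zero_false, tokQ_zero_true]
    | succ i ih =>
      rw [← add_assoc]
      set k := 14 + i with hk
      rw [tokQ_false, tokQ_true]
      set A := tokQ k false
      set Bv := tokQ k true
      have hA : 0 ≤ A := tokQ_nonneg _ _
      have hB : 0 ≤ Bv := tokQ_nonneg _ _
      set y := (1 / 2 : ℚ) ^ (k + 1) with hy
      have hy0 : 0 < y := by positivity
      have hy1 : y ≤ 1 / 64 := by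
        have := pow_le_pow_of_le_one (show (0 : ℚ) ≤ 1 / 2 by norm_num) (by norm_num) (show 6 ≤ k + 1 by omega)
        norm_num at this ⊢
        exact this
      have e1 : (1 / 2 : ℚ) ^ (2 * k + 1) = 2 * y ^ 2 := by rw [hy, ← pow_mul]; ring
      have e2 : (1 / 2 : ℚ) ^ (2 * (k + 1)) = y ^ 2 := by rw [hy, ← pow_mul]; ring
      have e3 : (1 / 2 : ℚ) ^ k = 2 * y := by rw [hy, pow_succ]; ring
      rw [e1, e2]
      rw [e3] at ih
      have hstep : A + Bv + 2 * y ^ 2 * A + (y + y ^ 2) * (2 * A + Bv) ≤ (A + Bv) * (1 + 2 * y + 4 * y ^ 2) := by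
        nlinarith [mul_nonneg hB hy0.le, mul_nonneg hB (sq_nonneg y)]
      have hpoly : (1 + 2 * y + 4 * y ^ 2) * (1 + 9 / 4 * y) ≤ 1 + 9 / 4 * (2 * y) := by nlinarith
      calc _ ≤ (A + Bv) * (1 + 2 * y + 4 * y ^ 2) * (1 + 9 / 4 * y) :=
            mul_le_mul_of_nonneg_right hstep (by linarith)
        _ ≤ (A + Bv) * (1 + 9 / 4 * (2 * y)) := by
            rw [mul_assoc]
            exact mul_le_mul_of_nonneg_left hpoly (by linarith)
        _ ≤ _ := ih
  have hmono : Monotone fun K => tokQ K false + tokQ K true := monotone_nat_of_le_succ fun k => by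
    rw [tokQ_false, tokQ_true]
    have := tokQ_nonneg k false
    have := tokQ_nonneg k true
    have : 0 ≤ (1 / 2 : ℚ) ^ (2 * k + 1) * tokQ k false := by positivity
    have : 0 ≤ ((1 / 2 : ℚ) ^ (k + 1) + (1 / 2 : ℚ) ^ (2 * (k + 1))) * (2 * tokQ k false + tokQ k true) := by
      positivity
    linarith
  intro K
  refine (hmono (show K ≤ 14 + K by omega)).trans (le_trans ?_ (hinv K))
  refine le_mul_of_one_le_right (add_nonneg (tokQ_nonneg _ _) (tokQ_nonneg _ _)) ?_
  have : (0 : ℚ) ≤ 9 / 4 * (1 / 2 : ℚ) ^ (14 + K) := by positivity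
  linarith

/-- The total number of invariants. -/
theorem total_leQ (q : ℕ) (hq : 2 ≤ q) (n : ℕ) :
    ∑ t : Fin n → Tok, (if okQ n t = true ∧ wtP n t ≤ n then
      ∑ D : Fin n → Fin (n + 1), (if ∑ i, (i.val + 1) * (D i).val = n - wtP n t then (q : ℚ) ^ ∑ i, (D i).val else 0)
      else 0) ≤ 639 / 25 * (q : ℚ) ^ n := by
  set C : ℚ := 34628 / 10000
  have key : ∀ a b : ℕ, b ≤ a → (q : ℚ) ^ (a - b) ≤ (q : ℚ) ^ a * (1 / 2 : ℚ) ^ b := by
    intro a b hb
    obtain ⟨c, rfl⟩ := Nat.exists_eq_add_of_le hb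
    rw [Nat.add_sub_cancel_left, pow_add, mul_comm ((q : ℚ) ^ b), mul_assoc, ← mul_pow]
    refine le_mul_of_one_le_right (by positivity) (one_le_pow₀ ?_)
    have : (2 : ℚ) ≤ q := by exact_mod_cast hq
    linarith
  calc _ ≤ ∑ t : Fin n → Tok, (if okQ n t = true then C * (q : ℚ) ^ n * (1 / 2 : ℚ) ^ wtP n t else 0) := by
        refine Finset.sum_le_sum fun t _ => ?_
        by_cases h : okQ n t = true ∧ wtP n t ≤ n
        · rw [if_pos h, if_pos h.1]
          refine (degSum_le q hq n _).trans ?_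
          rw [mul_assoc]
          refine mul_le_mul_of_nonneg_left ?_ (by norm_num [C])
          exact key n _ h.2
        · rw [if_neg h]
          split_ifs <;> positivity
    _ = C * (q : ℚ) ^ n * (tokQ n false + tokQ n true) := by
        rw [tokQ, tokQ, ← Finset.sum_add_distrib, Finset.mul_sum]
        refine Finset.sum_congr rfl fun t _ => ?_
        cases okQ n t <;> cases lastQ n t <;> simp
    _ ≤ C * (q : ℚ) ^ n * (738 / 100) := mul_le_mul_of_nonneg_left (tokQ_total_le n) (by positivity)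
    _ ≤ _ := by
        have : (0 : ℚ) ≤ (q : ℚ) ^ n := by positivity
        simp only [C]
        nlinarith

end CfsgLib.IsometryTwoQ
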