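import Cfsg.Agent.Lib.IsometryTwoQ.Frames
import Cfsg.Agent.Lib.IsometryTwoQ.Count
import Cfsg.Agent.Lib.IsometryTwo.Data

/-!
The invariants attached to a preferred decomposition with a quadratic form.
-/

set_option autoImplicit false
set_option linter.unusedSectionVars false

namespace CfsgLib.IsometryTwoQ

open Polynomial CfsgLib.IsometryClasses CfsgLib.IsometryTwo

universe u

variable {K : Type u} [Field K] [Fintype K]

theorem plainsAt_plainQ {e : ℕ} {m : Multiset (Tag2 K)} (hm : ∀ t ∈ m, VTagQ t) :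
    ∀ P ∈ plainsAt e m, PlainP P := fun P hP => (hm _ (mem_plainsAt.mp hP)).2

theorem gAt_goodQ (h2 : (2 : K) = 0) {m : Multiset (Tag2 K)} (hm : ∀ t ∈ m, VTagQ t) (e : ℕ) :
    GoodPoly (gAt m e) := by
  classical
  refine GoodPoly.mul ?_ (Multiset.prod_induction GoodPoly _ (fun a b => GoodPoly.mul) good_one
    fun P hP => (plainsAt_plainQ hm P hP).good h2)
  split_ifs
  exacts [good_uu h2, good_one]

theorem tw_oddQ {m : Multiset (Tag2 K)} (hm : ∀ t ∈ m, VTagQ t) {e : ℕ} (h : Tag2.tw e ∈ m) : Odd e :=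
  hm _ h

theorem tokAt_allowedQ {m : Multiset (Tag2 K)} (hm : ∀ t ∈ m, VTagQ t) (hc : Canon2 m) {n : ℕ} (i : Fin n) :
    allowed (prevQ (fun j => tokAt m (j + 1)) i) (tokAt m (i.val + 1)) = true := by
  classical
  have hprev : (Tag2.cyc (2 * (i.val + 1)) true ∈ m ∨ Tag2.tw (2 * (i.val + 1) - 1) ∈ m) →
      prevQ (fun j => tokAt m (j + 1)) i = false := by
    intro h
    by_cases hi : i.val = 0
    · rw [prevQ, if_pos hi]
    rw [prevQ, if_neg hi, Nat.sub_add_cancel (Nat.one_le_iff_ne_zero.mpr hi), Bool.eq_false_iff, Ne, pres_tokAt]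
    rw [bAt_zero, lt_self_iff_false]
    · exact not_false
    intro s
    rcases h with h | h
    · have := (hc.cyc_true _ h).1 s
      rwa [show 2 * (i.val + 1) - 2 = 2 * i.val by omega] at this
    · have := (hc.tw_count _).2 h s
      rwa [show 2 * (i.val + 1) - 1 - 1 = 2 * i.val by omega] at this
  set k := i.val + 1 with hk
  set p := prevQ (fun j => tokAt m (j + 1)) i with hp
  have hσ : (tokAt m k).2.1 = true → pres (tokAt m k) = true ∧ p = false := by
    intro h
    rw [tokAt, decide_eq_true_eq] at h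
    rcases h with h | ⟨h, hb⟩
    · exact ⟨(pres_tokAt m k).mpr (Nat.lt_of_lt_of_le (Multiset.count_pos.mpr h) (Nat.le_add_left _ _)),
        hprev (Or.inl h)⟩
    · exact ⟨(pres_tokAt m k).mpr hb, hprev (Or.inr h)⟩
  have hw : (tokAt m k).2.2 = true → pres (tokAt m k) = false ∧ p = false := by
    intro h
    rw [tokAt, decide_eq_true_eq] at h
    exact ⟨Bool.eq_false_iff.mpr (by rw [Ne, pres_tokAt]; omega), hprev (Or.inr h.1)⟩
  rw [allowed]
  cases h1 : (tokAt m k).2.1 <;> cases h3 : (tokAt m k).2.2 <;> simp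
  · exact ⟨(hw h3).1, (hw h3).2⟩
  · exact ⟨(hσ h1).1, (hσ h1).2⟩
  · exact absurd ((hσ h1).1.symm.trans (hw h3).1) (by simp)

open Classical in
/-- The dimension as a linear function of the multiplicities. -/
theorem dim_eqQ {n : ℕ} {m : Multiset (Tag2 K)} (hm : ∀ t ∈ m, VTagQ t) (h2 : (2 : K) = 0)
    (hb : ∀ t ∈ m, t.dim ≤ 2 * n) :
    (m.map Tag2.dim).sum = ∑ i : Fin n, ((i.val + 1) * (plainsAt (i.val + 1) m).prod.natDegree +
      2 * (i.val + 1) * bAt m (i.val + 1) + 2 * (2 * i.val + 1) * m.count (Tag2.tw (2 * i.val + 1))) := by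
  induction m using Multiset.induction with
  | empty => simp [plainsAt, bAt]
  | cons t m ih =>
    have hm' : ∀ s ∈ m, VTagQ s := fun s hs => hm s (Multiset.mem_cons_of_mem hs)
    rw [Multiset.map_cons, Multiset.sum_cons, ih hm' fun s hs => hb s (Multiset.mem_cons_of_mem hs)]
    have ht := hm t (Multiset.mem_cons_self t m)
    have htn := hb t (Multiset.mem_cons_self t m)
    obtain ⟨i₀, hi₀, key⟩ : ∃ i₀ : Fin n, True ∧ ∀ i : Fin n,
        (i.val + 1) * (plainsAt (i.val + 1) (t ::ₘ m)).prod.natDegree + 2 * (i.val + 1) * bAt (t ::ₘ m) (i.val + 1) +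
          2 * (2 * i.val + 1) * (t ::ₘ m).count (Tag2.tw (2 * i.val + 1)) =
        (if i = i₀ then t.dim else 0) + ((i.val + 1) * (plainsAt (i.val + 1) m).prod.natDegree +
          2 * (i.val + 1) * bAt m (i.val + 1) + 2 * (2 * i.val + 1) * m.count (Tag2.tw (2 * i.val + 1))) := by
      rcases t with ⟨P, e⟩ | ⟨e, s⟩ | e
      · obtain ⟨he, hP⟩ := ht
        have hd := PlainP.natDegree_pos h2 hP
        simp only [Tag2.dim] at htn
        have : e * 2 ≤ e * P.natDegree := Nat.mul_le_mul_left e hd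
        refine ⟨⟨e - 1, by omega⟩, trivial, fun i => ?_⟩
        have n1 : ∀ a b, (Tag2.plain P e ::ₘ m).count (Tag2.cyc a b) = m.count (Tag2.cyc a b) := fun a b =>
          Multiset.count_cons_of_ne (by simp) _
        have n2 : ∀ a, (Tag2.plain P e ::ₘ m).count (Tag2.tw a) = m.count (Tag2.tw a) := fun a =>
          Multiset.count_cons_of_ne (by simp) _
        simp only [bAt, n1, n2, plainsAt]
        by_cases hi : i.val + 1 = e
        · rw [if_pos (Fin.ext (show i.val = e - 1 by omega)), Multiset.filterMap_cons_some (plainAt (i.val + 1)) (Tag2.plain P e) m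
            (show plainAt (i.val + 1) (Tag2.plain P e) = some P by simp [plainAt, hi]), Multiset.prod_cons,
            natDegree_mul (PlainP.good h2 hP).1.ne_zero, Tag2.dim, mul_add, hi]
          · ring
          · exact (Multiset.prod_induction GoodPoly _ (fun a b => GoodPoly.mul) good_one
              fun R hR => (plainsAt_plainQ hm' R hR).good h2).1.ne_zero
        · rw [if_neg (fun h => hi (by rw [h]; show e - 1 + 1 = e; omega)), zero_add, Multiset.filterMap_cons_none _ _
            (show plainAt (i.val + 1) (Tag2.plain P e) = none by simp [plainAt, Ne.symm hi])]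
      · obtain ⟨⟨k, hk⟩, he2⟩ := ht
        simp only [Tag2.dim] at htn
        refine ⟨⟨k - 1, by omega⟩, trivial, fun i => ?_⟩
        rw [plainsAt, Multiset.filterMap_cons_none _ _ (show plainAt (i.val + 1) (Tag2.cyc e s : Tag2 K) = none from rfl),
          ← plainsAt, Multiset.count_cons_of_ne (show (Tag2.tw (2 * i.val + 1) : Tag2 K) ≠ Tag2.cyc e s by simp)]
        by_cases hi : 2 * (i.val + 1) = e
        · rw [if_pos (Fin.ext (show i.val = k - 1 by omega)), bAt, bAt, Tag2.dim]
          cases s <;> simp [hi] <;> ring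
        · rw [if_neg (fun h => hi (by rw [h]; show 2 * (k - 1 + 1) = e; omega)), zero_add, bAt, bAt,
            Multiset.count_cons_of_ne (by simp [hi]), Multiset.count_cons_of_ne (by simp [hi])]
      · obtain ⟨k, hk⟩ := ht
        simp only [Tag2.dim] at htn
        refine ⟨⟨k, by omega⟩, trivial, fun i => ?_⟩
        rw [plainsAt, Multiset.filterMap_cons_none _ _ (show plainAt (i.val + 1) (Tag2.tw e : Tag2 K) = none from rfl),
          ← plainsAt, bAt, Multiset.count_cons_of_ne (by simp), Multiset.count_cons_of_ne (by simp), ← bAt]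
        by_cases hi : 2 * i.val + 1 = e
        · rw [if_pos (Fin.ext (show i.val = k by omega)), hi, Multiset.count_cons_self, Tag2.dim]
          ring
        · rw [if_neg (fun h => hi (by rw [h]; show 2 * k + 1 = e; omega)), zero_add,
            Multiset.count_cons_of_ne (by simp [hi])]
    rw [Finset.sum_congr rfl fun i _ => key i]
    conv_rhs => rw [Finset.sum_add_distrib, Finset.sum_ite_eq' Finset.univ i₀, if_pos (Finset.mem_univ _)]

theorem weight_eqQ (h2 : (2 : K) = 0) {n : ℕ} {m : Multiset (Tag2 K)} (hm : ∀ t ∈ m, VTagQ t) (hc : Canon2 m)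
    (hdim : (m.map Tag2.dim).sum = 2 * n) :
    wtP n (fun i : Fin n => tokAt m (i.val + 1)) +
      ∑ i : Fin n, (i.val + 1) * ((gAt m (i.val + 1)).natDegree / 2) = n := by
  classical
  have hb := single_dim_le hdim
  have hdeg := dim_eqQ hm h2 hb
  set f : ℕ → ℕ := fun e => if Tag2.tw e ∈ m ∧ 0 < bAt m ((e + 1) / 2) then e else 0 with hf
  have hre := sum_odd_reindex n f fun e he => by
    have hmem : Tag2.tw e ∈ m := by
      by_contra hno
      exact he (if_neg fun h => hno h.1)
    refine ⟨tw_oddQ hm hmem, ?_⟩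
    have : (Tag2.tw e : Tag2 K).dim ≤ 2 * n := hb _ hmem
    simp only [Tag2.dim] at this
    omega
  have hG : ∀ i : Fin n, 2 * ((i.val + 1) * ((gAt m (i.val + 1)).natDegree / 2)) =
      2 * f (i.val + 1) + (i.val + 1) * (plainsAt (i.val + 1) m).prod.natDegree := by
    intro i
    obtain ⟨k, hk⟩ := (gAt_goodQ h2 hm (i.val + 1)).2.2.2
    rw [hk, show (k + k) / 2 = k by omega, show 2 * ((i.val + 1) * k) = (i.val + 1) * (k + k) by ring, ← hk,
      gAt, natDegree_mul ?_ ?_, mul_add]
    · simp only [hf]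
      split_ifs
      · rw [natDegree_mul (X_sub_C_ne_zero 1) (X_sub_C_ne_zero 1), natDegree_X_sub_C]
        ring
      · rw [natDegree_one]
        ring
    · split_ifs
      exacts [mul_ne_zero (X_sub_C_ne_zero 1) (X_sub_C_ne_zero 1), one_ne_zero]
    · exact (Multiset.prod_induction GoodPoly _ (fun a b => GoodPoly.mul) good_one
        fun R hR => (plainsAt_plainQ hm R hR).good h2).1.ne_zero
  have hT : ∀ i : Fin n, 2 * wta i.val (tokAt m (i.val + 1)) + 2 * f (2 * i.val + 1) =
      2 * (i.val + 1) * bAt m (i.val + 1) + 2 * (2 * i.val + 1) * m.count (Tag2.tw (2 * i.val + 1)) := by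
    intro i
    have hb2 := bAt_le hc (i.val + 1)
    have hcnt : m.count (Tag2.tw (2 * i.val + 1)) = if Tag2.tw (2 * i.val + 1) ∈ m then 1 else 0 := by
      split_ifs with h
      · exact le_antisymm (hc.tw_count _).1 (Multiset.count_pos.mpr h)
      · exact Multiset.count_eq_zero.mpr h
    rw [hcnt]
    simp only [hf, wta, tokAt, show 2 * (i.val + 1) - 1 = 2 * i.val + 1 by omega,
      show (2 * i.val + 1 + 1) / 2 = i.val + 1 by omega, Nat.min_eq_left hb2, decide_eq_true_eq]
    rcases Nat.eq_zero_or_pos (bAt m (i.val + 1)) with h0 | h0 <;>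
      by_cases ht : Tag2.tw (2 * i.val + 1) ∈ m <;> simp [ht, h0, ne_of_gt] <;> ring
  have : 2 * (wtP n (fun i : Fin n => tokAt m (i.val + 1)) +
      ∑ i : Fin n, (i.val + 1) * ((gAt m (i.val + 1)).natDegree / 2)) = 2 * n := by
    rw [← hdim, hdeg, mul_add, wtP, Finset.mul_sum, Finset.mul_sum, Finset.sum_congr rfl fun i _ => hG i,
      Finset.sum_add_distrib, ← Finset.mul_sum Finset.univ (fun i : Fin n => f (i.val + 1)), hre, Finset.mul_sum,
      ← add_assoc, ← Finset.sum_add_distrib, Finset.sum_congr rfl fun i _ => hT i, ← Finset.sum_add_distrib]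
    exact Finset.sum_congr rfl fun i _ => by ring
  omega

/-- The invariants determine the labels. -/
theorem data_injQ (h2 : (2 : K) = 0) {n : ℕ} {m m' : Multiset (Tag2 K)} (hm : ∀ t ∈ m, VTagQ t)
    (hm' : ∀ t ∈ m', VTagQ t) (hc : Canon2 m) (hc' : Canon2 m') (hb : ∀ t ∈ m, t.dim ≤ 2 * n)
    (hb' : ∀ t ∈ m', t.dim ≤ 2 * n) (ht : ∀ i : Fin n, tokAt m (i.val + 1) = tokAt m' (i.val + 1))
    (hg : ∀ i : Fin n, gAt m (i.val + 1) = gAt m' (i.val + 1)) : m = m' := by
  classical
  have hroot : ∀ {m : Multiset (Tag2 K)}, (∀ t ∈ m, VTagQ t) → ∀ e, uu K ∣ gAt m e ↔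
      ((Tag2.tw e ∈ m ∧ 0 < bAt m ((e + 1) / 2)) ∨ Tag2.plain (uu K * uu K) e ∈ m) := by
    intro m hm e
    rw [gAt]
    constructor
    · intro h
      by_cases hx : Tag2.tw e ∈ m ∧ 0 < bAt m ((e + 1) / 2)
      · exact Or.inl hx
      rw [if_neg hx, one_mul] at h
      obtain ⟨P, hP, hd⟩ := uu_irr.prime.exists_mem_multiset_dvd h
      rcases (plainsAt_plainQ hm P hP).key uu_monic uu_irr hd with ⟨-, rfl⟩ | ⟨h1, -, -⟩ | ⟨h1, -, -⟩
      exacts [Or.inr (mem_plainsAt.mp hP), absurd rfl h1, absurd rfl h1]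
    · rintro (h | h)
      · rw [if_pos h]
        exact dvd_mul_of_dvd_left (dvd_mul_right _ _) _
      · exact dvd_mul_of_dvd_right ((dvd_mul_right _ _).trans (Multiset.dvd_prod (mem_plainsAt.mpr h))) _
  have hbeq : ∀ i : Fin n, bAt m (i.val + 1) = bAt m' (i.val + 1) := fun i => by
    have h1 := congrArg (fun a : Tok => a.1.val) (ht i)
    have := bAt_le hc (i.val + 1)
    have := bAt_le hc' (i.val + 1)
    simp only [tokAt] at h1
    omega
  have htw : ∀ e, Tag2.tw e ∈ m ↔ Tag2.tw e ∈ m' := by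
    suffices H : ∀ {m m' : Multiset (Tag2 K)}, (∀ t ∈ m, VTagQ t) → (∀ t ∈ m', VTagQ t) → Canon2 m' →
        (∀ t ∈ m, t.dim ≤ 2 * n) → (∀ i : Fin n, tokAt m (i.val + 1) = tokAt m' (i.val + 1)) →
        (∀ i : Fin n, gAt m (i.val + 1) = gAt m' (i.val + 1)) → ∀ e, Tag2.tw e ∈ m → Tag2.tw e ∈ m' from
      fun e => ⟨H hm hm' hc' hb ht hg e,
        H hm' hm hc hb' (fun i => (ht i).symm) (fun i => (hg i).symm) e⟩
    intro m m' hm hm' hc' hb ht hg e h
    obtain ⟨k, rfl⟩ := tw_oddQ hm h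
    have hle : (Tag2.tw (2 * k + 1) : Tag2 K).dim ≤ 2 * n := hb _ h
    simp only [Tag2.dim] at hle
    have h1 := congrArg (fun a : Tok => (a.2.1, a.2.2)) (ht ⟨k, by omega⟩)
    simp only [tokAt, show 2 * (k + 1) - 1 = 2 * k + 1 by omega, Prod.mk.injEq, decide_eq_decide] at h1
    rcases Nat.eq_zero_or_pos (bAt m (k + 1)) with h0 | h0
    · exact (h1.2.mp ⟨h, h0⟩).1
    · rcases h1.1.mp (Or.inr ⟨h, h0⟩) with hV | hW
      · have hd : uu K ∣ gAt m' (2 * k + 1) := by
          have := hg ⟨2 * k, by omega⟩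
          simp only at this
          rw [← this, hroot hm]
          exact Or.inl ⟨h, by rwa [show (2 * k + 1 + 1) / 2 = k + 1 by omega]⟩
        obtain ⟨-, c2, c3⟩ := hc'.cyc_true _ hV
        rw [show 2 * (k + 1) - 1 = 2 * k + 1 by omega] at c2 c3
        rcases (hroot hm' _).mp hd with h' | h'
        exacts [h'.1, absurd h' c2]
      · exact hW.1
  have hV : ∀ i : Fin n, Tag2.cyc (2 * (i.val + 1)) true ∈ m ↔ Tag2.cyc (2 * (i.val + 1)) true ∈ m' := by
    intro i
    have h1 := congrArg (fun a : Tok => a.2.1) (ht i)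
    simp only [tokAt, decide_eq_decide] at h1
    have hex : ∀ {m : Multiset (Tag2 K)}, Canon2 m → Tag2.cyc (2 * (i.val + 1)) true ∈ m →
        Tag2.tw (2 * (i.val + 1) - 1) ∉ m := fun hc h => (hc.cyc_true _ h).2.2
    rw [htw] at h1
    constructor
    · intro h
      rcases h1.mp (Or.inl h) with h' | h'
      exacts [h', absurd ((htw _).mpr h'.1) (hex hc h)]
    · intro h
      rcases h1.mpr (Or.inl h) with h' | h'
      exacts [h', absurd h'.1 (hex hc' h)]
  have hplain : ∀ i : Fin n, plainsAt (i.val + 1) m = plainsAt (i.val + 1) m' := by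
    intro i
    refine plain_unique (plainsAt_plainQ hm) (plainsAt_plainQ hm') ?_ h2
    have h1 := hg i
    rw [gAt, gAt] at h1
    have hiff : (Tag2.tw (i.val + 1) ∈ m ∧ 0 < bAt m ((i.val + 1 + 1) / 2)) ↔
        (Tag2.tw (i.val + 1) ∈ m' ∧ 0 < bAt m' ((i.val + 1 + 1) / 2)) := by
      have := hbeq ⟨(i.val + 1 + 1) / 2 - 1, by have := i.isLt; omega⟩
      simp only [show (i.val + 1 + 1) / 2 - 1 + 1 = (i.val + 1 + 1) / 2 by omega] at this
      rw [htw, this]
    simp only [hiff] at h1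
    refine mul_left_cancel₀ ?_ h1
    split_ifs
    exacts [mul_ne_zero (X_sub_C_ne_zero 1) (X_sub_C_ne_zero 1), one_ne_zero]
  refine Multiset.ext.mpr fun t => ?_
  by_cases hv : VTagQ t ∧ t.dim ≤ 2 * n
  swap
  · rw [Multiset.count_eq_zero.mpr fun h => hv ⟨hm t h, hb t h⟩, Multiset.count_eq_zero.mpr fun h => hv ⟨hm' t h, hb' t h⟩]
  obtain ⟨hv, hd⟩ := hv
  rcases t with ⟨P, e⟩ | ⟨e, s⟩ | e
  · obtain ⟨he, hP⟩ := hv
    simp only [Tag2.dim] at hd
    have : e * 2 ≤ e * P.natDegree := Nat.mul_le_mul_left e (PlainP.natDegree_pos h2 hP)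
    have := hplain ⟨e - 1, by omega⟩
    simp only [Nat.sub_add_cancel he] at this
    rw [← count_plainsAt, ← count_plainsAt, this]
  · obtain ⟨⟨k, rfl⟩, he2⟩ := hv
    simp only [Tag2.dim] at hd
    have e1 := hbeq ⟨k - 1, by omega⟩
    have e2 := hV ⟨k - 1, by omega⟩
    simp only [show k - 1 + 1 = k by omega] at e1 e2
    rw [bAt, bAt] at e1
    rw [← two_mul] at *
    have i1 := (hc.cyc_count (2 * k)).2
    have i2 := (hc'.cyc_count (2 * k)).2
    rw [← Multiset.count_pos, ← Multiset.count_pos] at e2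
    cases s <;> omega
  · have i1 := (hc.tw_count e).1
    have i2 := (hc'.tw_count e).1
    have e2 := htw e
    rw [← Multiset.count_pos, ← Multiset.count_pos] at e2
    omega

end CfsgLib.IsometryTwoQ
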