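import Cfsg.Agent.Lib.IsometryTwoQ.Choice

/-!
Preferred orthogonal decompositions with a quadratic form, characteristic two.
-/

set_option autoImplicit false
set_option linter.unusedSectionVars false

namespace CfsgLib.IsometryTwoQ

open Polynomial CfsgLib.IsometryClasses CfsgLib.IsometryTwo

universe u v w

variable {K : Type u} [Field K] [Fintype K] {V : Type v} [AddCommGroup V] [Module K V] [FiniteDimensional K V]
  {Q : V → K} {B : V →ₗ[K] V →ₗ[K] K} {x : Module.End K V} {N : ℕ}

/-- An orthogonal decomposition into pieces. -/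
inductive FrameQ (Q : V → K) (B : V →ₗ[K] V →ₗ[K] K) (x : Module.End K V) : Submodule K V → Multiset (Tag2 K) → Prop
  | nil : FrameQ Q B x ⊥ 0
  | cons {t : Tag2 K} {W U : Submodule K V} {m : Multiset (Tag2 K)} :
      IsPieceQ Q B x t W → Orth B W U → FrameQ Q B x U m → FrameQ Q B x (W ⊔ U) (t ::ₘ m)

theorem FrameQ.nd {U : Submodule K V} {m : Multiset (Tag2 K)} (hF : FrameQ Q B x U m) (h : CtxQ Q B x N) :
    Nd B U := by
  induction hF with
  | nil => intro u hu _; exact (Submodule.mem_bot K).mp hu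
  | cons hW ho _ ih =>
    intro u hu hz
    obtain ⟨a, ha, b, hb, rfl⟩ := Submodule.mem_sup.mp hu
    have h1 : a = 0 := hW.nd h a ha fun w hw => by
      have := hz w (Submodule.mem_sup_left hw)
      rwa [map_add, ho w hw b hb, add_zero] at this
    have h2 : b = 0 := ih b hb fun w hw => by
      have := hz w (Submodule.mem_sup_right hw)
      rwa [map_add, h.toCtx2.orth_symm ho w hw a ha, zero_add] at this
    rw [h1, h2, add_zero]

theorem FrameQ.inv {U : Submodule K V} {m : Multiset (Tag2 K)} (hF : FrameQ Q B x U m) : Inv x U := by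
  induction hF with
  | nil => intro u hu; rw [Submodule.mem_bot] at hu ⊢; rw [hu, map_zero]
  | cons hW _ _ ih =>
    intro u hu
    obtain ⟨a, ha, b, hb, rfl⟩ := Submodule.mem_sup.mp hu
    rw [map_add]
    exact Submodule.add_mem_sup (hW.inv a ha) (ih b hb)

theorem FrameQ.finrank {U : Submodule K V} {m : Multiset (Tag2 K)} (hF : FrameQ Q B x U m) (h : CtxQ Q B x N) :
    Module.finrank K U = (m.map Tag2.dim).sum := by
  induction hF with
  | nil => simp
  | @cons t W U m hW ho _ ih =>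
    have h1 := Submodule.finrank_sup_add_finrank_inf_eq W U
    rw [IsometryTwo.inf_eq_bot (hW.nd h) ho, finrank_bot, add_zero] at h1
    rw [h1, Multiset.map_cons, Multiset.sum_cons, hW.finrank h, ih]

theorem FrameQ.extract {U : Submodule K V} {m : Multiset (Tag2 K)} (hF : FrameQ Q B x U m) (h : CtxQ Q B x N) :
    ∀ {a : Tag2 K} {m' : Multiset (Tag2 K)}, m = a ::ₘ m' →
      ∃ W U', IsPieceQ Q B x a W ∧ Orth B W U' ∧ U = W ⊔ U' ∧ FrameQ Q B x U' m' := by
  induction hF with
  | nil => intro a m' h0; exact absurd h0.symm Multiset.cons_ne_zero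
  | @cons t W U m hW ho hF ih =>
    intro a m' h0
    rcases Multiset.cons_eq_cons.mp h0 with ⟨rfl, rfl⟩ | ⟨-, cs, h1, h2⟩
    · exact ⟨W, U, hW, ho, rfl, hF⟩
    · obtain ⟨W', U', hW', ho', rfl, hF'⟩ := ih h1
      refine ⟨W', W ⊔ U', hW', ?_, ?_, h2 ▸ FrameQ.cons hW (fun u hu w hw => ho u hu w (Submodule.mem_sup_right hw)) hF'⟩
      · intro u hu w hw
        obtain ⟨c, hc, d, hd, rfl⟩ := Submodule.mem_sup.mp hw
        rw [map_add, h.toCtx2.orth_symm ho u (Submodule.mem_sup_left hu) c hc, ho' u hu d hd, add_zero]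
      · rw [sup_left_comm]

/-- The possible labels. -/
def VTagQ : Tag2 K → Prop
  | .plain P e => 1 ≤ e ∧ ((∃ p : K[X], p.Monic ∧ Irreducible p ∧ p.coeff 0 ≠ 0 ∧
      ((du p = p ∧ p ≠ uu K ∧ P = p) ∨ (du p ≠ p ∧ P = p * du p))) ∨ P = uu K * uu K)
  | .cyc e _ => Even e ∧ 2 ≤ e
  | .tw e => Odd e

theorem IsPieceQ.vtag {t : Tag2 K} {W : Submodule K V} (hW : IsPieceQ Q B x t W) : VTagQ t := by
  rcases t with ⟨P, e⟩ | ⟨e, s⟩ | e
  · rcases hW with ⟨v, hv, -⟩ | ⟨p, v, w, hv, rfl, -⟩ | ⟨z, w, hv, rfl, -⟩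
    · exact ⟨hv.he, Or.inl ⟨P, hv.mon, hv.irr, hv.p0, Or.inl ⟨hv.self, hv.ne, rfl⟩⟩⟩
    · exact ⟨hv.he, Or.inl ⟨p, hv.mon, hv.irr, hv.p0, Or.inr ⟨Ne.symm hv.shape, rfl⟩⟩⟩
    · exact ⟨hv.base.he, Or.inr rfl⟩
  · obtain ⟨v, hv, -⟩ := hW
    exact ⟨hv.base.ev, hv.base.he⟩
  · obtain ⟨z, w, hv, -⟩ := hW
    exact hv.hsQ rfl

theorem IsPieceQ.unip_plain {e : ℕ} {W : Submodule K V} (hW : IsPieceQ Q B x (.plain (uu K * uu K) e) W) :
    ∃ z w, IsWQ Q B x e false z w ∧ W = LinearMap.range (orb x z) ⊔ LinearMap.range (orb x w) := by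
  rcases hW with ⟨v, hv, -⟩ | ⟨p, v, w, hv, hP, -⟩ | ⟨z, w, hv, -, hWe⟩
  · rcases hv.irr.isUnit_or_isUnit rfl with h1 | h1 <;> exact absurd h1 uu_irr.not_isUnit
  · exact absurd hP.symm (pair_prod_ne ⟨hv.mon, hv.irr⟩ hv.shape)
  · exact ⟨z, w, hv, hWe⟩

theorem FrameQ.vtag {U : Submodule K V} {m : Multiset (Tag2 K)} (hF : FrameQ Q B x U m) :
    ∀ t ∈ m, VTagQ t := by
  induction hF with
  | nil => intro t ht; simp at ht
  | cons hW _ _ ih =>
    intro t ht
    rcases Multiset.mem_cons.mp ht with rfl | ht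
    exacts [hW.vtag, ih t ht]

theorem exp_le {U W : Submodule K V} {t : Tag2 K} {k e : ℕ} (hu : IsUnip t k) (hW : IsPieceQ Q B x t W)
    (hWU : W ≤ U) (hM : Max x U e) : k ≤ e := by
  have key : ∀ {z : V}, z ∈ U → act x ((uu K) ^ k) z = 0 → act x ((uu K) ^ (k - 1)) z ≠ 0 → k ≤ e := by
    intro z hz hk hne
    have h2 := natDegree_le_of_dvd (exact_dvd uu_irr hk hne (hM z hz k hk)) (pow_ne_zero _ (X_sub_C_ne_zero 1))
    simpa [natDegree_pow, natDegree_X_sub_C] using h2
  have kp : ∀ {z w : V}, Pair B x k z w → z ∈ W → k ≤ e := fun {z w} hp hz =>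
    key (hWU hz) hp.kill_z (gram_q_ne (w := w) ⟨1, by rw [one_mul, hp.m]; exact one_ne_zero⟩)
  rcases t with ⟨P, j⟩ | ⟨j, s⟩ | j
  · obtain ⟨rfl, rfl⟩ := hu
    obtain ⟨z, w, hv, rfl⟩ := hW.unip_plain
    exact kp hv.base.toPair (Submodule.mem_sup_left (mem_orb z))
  · have hj : j = k := hu
    subst hj
    obtain ⟨v, hv, rfl⟩ := hW
    exact key (hWU (mem_orb v)) hv.base.kill (gram_q_ne hv.base.top)
  · have hj : j = k := hu
    subst hj
    obtain ⟨z, w, hv, rfl⟩ := hW
    exact kp hv.base.toPair (Submodule.mem_sup_left (mem_orb z))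

theorem exists_frameQ (h : CtxQ Q B x N) : ∀ (n : ℕ) (U : Submodule K V), Module.finrank K U ≤ n → Inv x U →
    Nd B U → ∃ m, FrameQ Q B x U m ∧ Canon2 m := by
  classical
  intro n
  induction n with
  | zero =>
    intro U hn _ _
    have : U = ⊥ := Submodule.finrank_eq_zero.mp (Nat.le_zero.mp hn)
    subst this
    exact ⟨0, FrameQ.nil, ⟨fun e => by simp, fun e he => by simp at he, fun e => by simp⟩⟩
  | succ n ih =>
    intro U hn hU hnd
    by_cases hne : U = ⊥
    · exact ih U (by rw [hne, finrank_bot]; exact Nat.zero_le _) hU hnd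
    obtain ⟨t, W, hW, hWU, hWne, hgood⟩ := exists_pieceQ h hU hnd hne
    obtain ⟨π, hπ1, hπ2, hπ3, hπ4⟩ := exists_proj h.toCtx2 (hW.nd h) hW.inv
    set U₁ := U ⊓ LinearMap.ker π with hU₁
    have ho : Orth B W U₁ := fun w hw u hu => by
      rw [← hπ3 u w hw, LinearMap.mem_ker.mp hu.2, map_zero]
    have hsup : W ⊔ U₁ = U := by
      refine le_antisymm (sup_le hWU inf_le_left) fun u hu => ?_
      refine Submodule.mem_sup.mpr ⟨π u, hπ1 u, u - π u, ⟨sub_mem hu (hWU (hπ1 u)), ?_⟩, add_sub_cancel _ _⟩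
      rw [SetLike.mem_coe, LinearMap.mem_ker, map_sub, hπ2 _ (hπ1 u), sub_self]
    have hinv : Inv x U₁ := fun u hu => ⟨hU u hu.1, by
      rw [SetLike.mem_coe, LinearMap.mem_ker, hπ4, LinearMap.mem_ker.mp hu.2, map_zero]⟩
    have hnd₁ : Nd B U₁ := fun u hu hz => by
      refine hnd u hu.1 fun z hz' => ?_
      rw [← hsup] at hz'
      obtain ⟨a, ha, b, hb, rfl⟩ := Submodule.mem_sup.mp hz'
      rw [map_add, LinearMap.add_apply, ho a ha u hu, hz b hb, add_zero]
    have hlt : Module.finrank K U₁ < Module.finrank K U := by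
      refine Submodule.finrank_lt_finrank_of_lt (lt_of_le_of_ne inf_le_left fun h0 => hWne ?_)
      have := IsometryTwo.inf_eq_bot (hW.nd h) ho
      rwa [h0, inf_eq_left.mpr hWU] at this
    obtain ⟨m, hm, hcan⟩ := ih U₁ (by omega) hinv hnd₁
    refine ⟨t ::ₘ m, hsup ▸ FrameQ.cons hW ho hm, ?_⟩
    have hget : ∀ {a : Tag2 K}, a ∈ m → ∃ W', IsPieceQ Q B x a W' ∧ W' ≤ U₁ := by
      intro a ha
      obtain ⟨m', rfl⟩ := Multiset.exists_cons_of_mem ha
      obtain ⟨W', U', hW', -, hUW, -⟩ := hm.extract h rfl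
      exact ⟨W', hW', hUW ▸ le_sup_left⟩
    have hU₁U : U₁ ≤ U := inf_le_left
    have hwu : ∀ {a b : V}, a ∈ W → b ∈ U₁ → ∀ r, gram B x a b r = 0 := fun ha hb r => gram_orth hinv ho ha hb r
    have high : ∀ {a : Tag2 K} {k e : ℕ}, a ∈ m → IsUnip a k → Max x U e → k ≤ e := by
      intro a k e ha hu hM
      obtain ⟨W', hW', hle⟩ := hget ha
      exact exp_le hu hW' (hle.trans hU₁U) hM
    have hmaxT : ∀ {k : ℕ}, IsUnip t k → Max x U k := by
      intro k hk
      rcases t with ⟨P, j⟩ | ⟨j, s⟩ | j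
      · obtain ⟨rfl, rfl⟩ := hk
        exact hgood rfl
      · have hj : j = k := hk
        subst hj
        exact hgood.1
      · have hj : j = k := hk
        subst hj
        exact hgood.1
    refine ⟨fun e => ?_, fun e he => ?_, fun e => ?_⟩
    · obtain ⟨i1, i2⟩ := hcan.cyc_count e
      by_cases ht : ∃ s, t = .cyc e s
      swap
      · push_neg at ht
        rw [Multiset.count_cons_of_ne (Ne.symm (ht _)), Multiset.count_cons_of_ne (Ne.symm (ht _))]
        exact ⟨i1, i2⟩
      obtain ⟨s, rfl⟩ := ht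
      obtain ⟨v, hv, rfl⟩ := hW
      obtain ⟨-, hnp, hntw⟩ := hgood
      have hvU : v ∈ U := hWU (mem_orb v)
      have one : ∀ {s'}, Tag2.cyc e s' ∈ m → s = true → False := by
        intro s' hs' hst
        obtain ⟨W', hW', hle⟩ := hget hs'
        obtain ⟨v', hv', rfl⟩ := hW'
        have hv'1 : v' ∈ U₁ := hle (mem_orb v')
        subst hst
        cases s'
        · exact hntw rfl v' (hU₁U hv'1) hv'
        · by_cases h4 : 4 ≤ e
          · obtain ⟨z, hz, hzV⟩ := untwist_two h.toCtx2 hU (hv.isV h4) (hv'.isV h4) hvU (hU₁U hv'1)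
              (hwu (mem_orb v) hv'1)
            exact hntw rfl z hz (vq_of_isV hzV h4)
          · have he2 : e = 2 := by obtain ⟨k, hk⟩ := hv.base.ev; have := hv.base.he; omega
            subst he2
            obtain ⟨z, hz, hzV⟩ := untwist_two_low h hU hv hv' hvU (hU₁U hv'1) (hwu (mem_orb v) hv'1)
            exact hntw rfl z hz hzV
      have two : ∀ {s₁ s₂ m'}, m = Tag2.cyc e s₁ ::ₘ Tag2.cyc e s₂ ::ₘ m' → False := by
        intro s₁ s₂ m' hmm
        obtain ⟨W1, U2, ⟨v1, hv1, hW1e⟩, ho1, hU12, hm2⟩ := hm.extract h hmm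
        obtain ⟨W2, U3, ⟨v2, hv2, hW2e⟩, -, hU23, -⟩ := hm2.extract h rfl
        have mv1W : v1 ∈ W1 := hW1e ▸ mem_orb v1
        have mv2U : v2 ∈ U2 := hU23 ▸ Submodule.mem_sup_left (hW2e ▸ mem_orb v2)
        have m1 : v1 ∈ U₁ := hU12 ▸ Submodule.mem_sup_left mv1W
        have m2 : v2 ∈ U₁ := hU12 ▸ Submodule.mem_sup_right mv2U
        refine hnp (v + v1) (add_mem hvU (hU₁U m1)) (v1 + v2) (add_mem (hU₁U m1) (hU₁U m2))
          (pair_of_three h.toCtx2 hv.base hv1.base hv2.base (hwu (mem_orb v) m1) (hwu (mem_orb v) m2) (gram_orth hm2.inv ho1 mv1W mv2U))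
      cases s
      · have hle : m.count (.cyc e false) + m.count (.cyc e true) ≤ 1 := by
          by_contra hlt2
          push_neg at hlt2
          have hex : ∃ a b m', m = Tag2.cyc e a ::ₘ Tag2.cyc e b ::ₘ m' := by
            rcases Nat.eq_zero_or_pos (m.count (.cyc e true)) with h0 | h0
            · obtain ⟨m1, rfl⟩ := Multiset.exists_cons_of_mem
                (Multiset.count_pos.mp (show 0 < m.count (.cyc e false) by omega))
              rw [Multiset.count_cons_self, Multiset.count_cons_of_ne (by simp)] at hlt2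
              rw [Multiset.count_cons_of_ne (by simp)] at h0
              obtain ⟨m2, rfl⟩ := Multiset.exists_cons_of_mem
                (Multiset.count_pos.mp (show 0 < m1.count (.cyc e false) by omega))
              exact ⟨false, false, m2, rfl⟩
            · obtain ⟨m1, rfl⟩ := Multiset.exists_cons_of_mem (Multiset.count_pos.mp h0)
              rw [Multiset.count_cons_self] at i2
              rw [Multiset.count_cons_self, Multiset.count_cons_of_ne (by simp)] at hlt2
              obtain ⟨m2, rfl⟩ := Multiset.exists_cons_of_mem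
                (Multiset.count_pos.mp (show 0 < m1.count (.cyc e false) by omega))
              exact ⟨true, false, m2, rfl⟩
          obtain ⟨a, b, m', hm'⟩ := hex
          exact two hm'
        rw [Multiset.count_cons_self, Multiset.count_cons_of_ne (by simp)]
        exact ⟨by omega, i2⟩
      · have h0 : ∀ s', m.count (Tag2.cyc e s') = 0 := fun s' => Multiset.count_eq_zero.mpr fun hh => one hh rfl
        rw [Multiset.count_cons_self, Multiset.count_cons_of_ne (by simp), h0, h0]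
        omega
    · rcases Multiset.mem_cons.mp he with ht | he'
      · subst ht
        obtain ⟨v, hv, rfl⟩ := hW
        obtain ⟨-, -, hntw⟩ := hgood
        have he2 := hv.base.he
        have hvU : v ∈ U := hWU (mem_orb v)
        have hk : ∀ {a : Tag2 K}, a ∈ (Tag2.cyc e true ::ₘ m) → a ≠ Tag2.cyc e true → a ∈ m := fun ha hne' =>
          (Multiset.mem_cons.mp ha).resolve_left hne'
        have low_pair : ∀ {s' : Bool} {v z w : V}, IsVQ Q B x e true v → IsWQ Q B x (e - 1) s' z w → v ∈ U →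
            z ∈ U → w ∈ U → (∀ r, gram B x v z r = 0) → (∀ r, gram B x v w r = 0) → False := by
          intro s' v z w hv hz mv mz mw oz ow
          by_cases h4 : 4 ≤ e
          · obtain ⟨u, mu, hu⟩ := untwist_pair h.toCtx2 (hv.isV h4) hz.base mv mz mw oz ow
            exact hntw rfl u mu (vq_of_isV hu h4)
          · have he2' : e = 2 := by obtain ⟨k, hk⟩ := hv.base.ev; omega
            subst he2'
            obtain ⟨u, mu, hu⟩ := untwist_pair_low h hv hz mv mz mw oz ow
            exact hntw rfl u mu hu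
        refine ⟨fun s hs => ?_, fun hs => ?_, fun hs => ?_⟩
        · obtain ⟨W', ⟨z, hz, rfl⟩, hle⟩ := hget (hk hs (fun h' => by injection h' with h1; omega))
          have mz : z ∈ U₁ := hle (mem_orb z)
          have h4 : 4 ≤ e := by
            have := hz.base.he
            omega
          obtain ⟨u, mu, hu⟩ := untwist_cyc h.toCtx2 (hv.isV h4) hz.base hvU (hU₁U mz) (hwu (mem_orb v) mz)
          exact hntw rfl u mu (vq_of_isV hu h4)
        · obtain ⟨W', hW', hle⟩ := hget (hk hs (fun h' => by injection h'))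
          obtain ⟨z, w, hz, rfl⟩ := hW'.unip_plain
          have mz : z ∈ U₁ := hle (Submodule.mem_sup_left (mem_orb z))
          have mw : w ∈ U₁ := hle (Submodule.mem_sup_right (mem_orb w))
          exact low_pair hv hz hvU (hU₁U mz) (hU₁U mw) (hwu (mem_orb v) mz) (hwu (mem_orb v) mw)
        · obtain ⟨W', ⟨z, w, hz, rfl⟩, hle⟩ := hget (hk hs (fun h' => by injection h'))
          have mz : z ∈ U₁ := hle (Submodule.mem_sup_left (mem_orb z))
          have mw : w ∈ U₁ := hle (Submodule.mem_sup_right (mem_orb w))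
          exact low_pair hv hz hvU (hU₁U mz) (hU₁U mw) (hwu (mem_orb v) mz) (hwu (mem_orb v) mw)
      · obtain ⟨i1, i2, i3⟩ := hcan.cyc_true e he'
        obtain ⟨-, he2⟩ : VTagQ (Tag2.cyc e true : Tag2 K) := hm.vtag _ he'
        have low : ∀ {k}, IsUnip t k → k < e → False := fun hk hlt' => by
          have := high he' (show IsUnip (Tag2.cyc e true : Tag2 K) e from rfl) (hmaxT hk)
          omega
        refine ⟨fun s hs => ?_, fun hs => ?_, fun hs => ?_⟩
        · rcases Multiset.mem_cons.mp hs with rfl | hs'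
          exacts [low (k := e - 2) rfl (by omega), i1 s hs']
        · rcases Multiset.mem_cons.mp hs with rfl | hs'
          exacts [low (k := e - 1) ⟨rfl, rfl⟩ (by omega), i2 hs']
        · rcases Multiset.mem_cons.mp hs with rfl | hs'
          exacts [low (k := e - 1) rfl (by omega), i3 hs']
    · obtain ⟨i1, i2⟩ := hcan.tw_count e
      by_cases ht : t = .tw e
      · subst ht
        obtain ⟨z, w, hz, rfl⟩ := hW
        obtain ⟨-, hntw⟩ := hgood
        have ho := hz.hsQ rfl
        have mzW : z ∈ LinearMap.range (orb x z) ⊔ LinearMap.range (orb x w) := Submodule.mem_sup_left (mem_orb z)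
        have mwW : w ∈ LinearMap.range (orb x z) ⊔ LinearMap.range (orb x w) := Submodule.mem_sup_right (mem_orb w)
        have bad : 3 ≤ e → ∀ {u : V}, u ∈ U₁ → act x ((uu K) ^ e) u = 0 →
            gram B x u u ((uu K) ^ (e - 2)) = 1 → False := fun he3 {u} mu hk hu => by
          obtain ⟨a, ma, b, mb, hab⟩ := untwist_W h.toCtx2 (hz.isW he3) (hWU mzW) (hWU mwW) (hU₁U mu) hk hu
            (hwu mzW mu) (hwu mwW mu)
          exact hntw a ma b mb (wq_of_isW hab (by omega) (by simp))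
        refine ⟨?_, fun _ s hs => ?_⟩
        · rw [Multiset.count_cons_self, Multiset.count_eq_zero.mpr fun hh => ?_]
          obtain ⟨W', ⟨z', w', hz', rfl⟩, hle⟩ := hget hh
          have mz' := hle (Submodule.mem_sup_left (mem_orb z'))
          by_cases he3 : 3 ≤ e
          · exact bad he3 mz' hz'.base.kill_z (by simpa using (hz'.isW he3).fz (by omega))
          · have he1 : e = 1 := by obtain ⟨k, hk⟩ := ho; omega
            subst he1
            obtain ⟨a, ma, b, mb, hab⟩ := untwist_W_low h hz (hWU mzW) (hWU mwW) (hU₁U mz')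
              ((act_uu_one z').mp hz'.base.kill_z) (by simpa using hz'.qz1 rfl) (hwu mzW mz') (hwu mwW mz')
            exact hntw a ma b mb hab
        · rcases Multiset.mem_cons.mp hs with h' | hs'
          · exact absurd h' (by simp)
          · obtain ⟨W', ⟨u, hu, rfl⟩, hle⟩ := hget hs'
            have he3 : 3 ≤ e := by have := hu.base.he; omega
            refine bad he3 (hle (mem_orb u)) (act_zero_of_dvd hu.base.kill (pow_dvd_pow _ (Nat.sub_le e 1))) ?_
            have := hu.base.q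
            rwa [show e - 1 - 1 = e - 2 by omega] at this
      · rw [Multiset.count_cons_of_ne (Ne.symm ht)]
        refine ⟨i1, fun he s hs => ?_⟩
        have he' : Tag2.tw e ∈ m := (Multiset.mem_cons.mp he).resolve_left (Ne.symm ht)
        rcases Multiset.mem_cons.mp hs with rfl | hs'
        · obtain ⟨k, he3⟩ : VTagQ (Tag2.tw e : Tag2 K) := hm.vtag _ he'
          have := high he' (show IsUnip (Tag2.tw e : Tag2 K) e from rfl) (hmaxT (k := e - 1) rfl)
          omega
        · exact i2 he' s hs'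

variable {V' : Type w} [AddCommGroup V'] [Module K V'] [FiniteDimensional K V'] {Q' : V' → K}
  {B' : V' →ₗ[K] V' →ₗ[K] K} {y : Module.End K V'}

theorem FrameQ.exists_iso {U : Submodule K V} {m : Multiset (Tag2 K)} (hF : FrameQ Q B x U m) (h : CtxQ Q B x N)
    (h' : CtxQ Q' B' y N) : ∀ {U' : Submodule K V'}, FrameQ Q' B' y U' m → ∃ T, IsoQ Q B x Q' B' y U U' T := by
  induction hF with
  | nil =>
    intro U' _
    have q0 : Q 0 = 0 := by have := h.qsmul 0 0; simpa using this
    have q0' : Q' 0 = 0 := by have := h'.qsmul 0 0; simpa using this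
    refine ⟨0, ⟨fun u _ => by simp, fun u _ => by simp, fun u hu u' _ => ?_⟩, fun u hu => ?_⟩
    · rw [(Submodule.mem_bot K).mp hu]
      simp
    · rw [(Submodule.mem_bot K).mp hu, LinearMap.zero_apply, q0, q0']
  | @cons t W U m hW ho hF ih =>
    intro U' hF'
    obtain ⟨W', U₁', hW', ho', rfl, hF₁⟩ := hF'.extract h' rfl
    obtain ⟨Tw, hTw⟩ := hW.exists_iso hW' h h'
    obtain ⟨T₁, hT₁⟩ := ih hF₁
    obtain ⟨π, hπ1, hπ2, hπ3, hπ4⟩ := exists_proj h.toCtx2 (hW.nd h) hW.inv
    let T := Tw.comp π + T₁.comp (LinearMap.id - π)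
    have key : ∀ a ∈ W, ∀ b ∈ U, T (a + b) = Tw a + T₁ b := fun a ha b hb => by
      have hb0 : π b = 0 := (hW.nd h).unique (hπ1 b) (zero_mem _) fun w hw => by
        rw [hπ3 b w hw, ho w hw b hb, map_zero]
      simp [T, hπ2 a ha, hb0]
    refine ⟨T, ⟨fun u hu => ?_, fun u hu => ?_, fun u hu u' hu' => ?_⟩, fun u hu => ?_⟩
    · obtain ⟨a, ha, b, hb, rfl⟩ := Submodule.mem_sup.mp hu
      rw [key a ha b hb]
      exact Submodule.add_mem_sup (hTw.mapsTo a ha) (hT₁.mapsTo b hb)
    · obtain ⟨a, ha, b, hb, rfl⟩ := Submodule.mem_sup.mp hu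
      rw [map_add, key _ (hW.inv a ha) _ (hF.inv b hb), key a ha b hb, hTw.comm a ha, hT₁.comm b hb, map_add]
    · obtain ⟨a, ha, b, hb, rfl⟩ := Submodule.mem_sup.mp hu
      obtain ⟨a', ha', b', hb', rfl⟩ := Submodule.mem_sup.mp hu'
      rw [key a ha b hb, key a' ha' b' hb']
      simp only [map_add, LinearMap.add_apply]
      rw [hTw.pres a ha a' ha', hT₁.pres b hb b' hb', ho a ha b' hb', h.toCtx2.orth_symm ho b hb a' ha',
        ho' _ (hTw.mapsTo a ha) _ (hT₁.mapsTo b' hb'),
        h'.toCtx2.orth_symm ho' _ (hT₁.mapsTo b hb) _ (hTw.mapsTo a' ha')]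
    · obtain ⟨a, ha, b, hb, rfl⟩ := Submodule.mem_sup.mp hu
      rw [key a ha b hb, h'.qadd, h.qadd, hTw.quad a ha, hT₁.quad b hb, ho a ha b hb,
        ho' _ (hTw.mapsTo a ha) _ (hT₁.mapsTo b hb)]

theorem exists_equiv_of_frameQ {y₀ : Module.End K V} (h : CtxQ Q B x N) (h' : CtxQ Q B y₀ N)
    (hB : ∀ u, (∀ w, B w u = 0) → u = 0) {m : Multiset (Tag2 K)} (hx : FrameQ Q B x ⊤ m)
    (hy : FrameQ Q B y₀ ⊤ m) :
    ∃ T : V ≃ₗ[K] V, (∀ u, T (x u) = y₀ (T u)) ∧ ∀ u, Q (T u) = Q u := by
  obtain ⟨T, hT⟩ := hx.exists_iso h h' hy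
  have hinj : Function.Injective T := by
    rw [← LinearMap.ker_eq_bot, LinearMap.ker_eq_bot']
    intro u hu
    refine hB u fun w => ?_
    rw [← hT.pres w trivial u trivial, hu, map_zero]
  exact ⟨LinearEquiv.ofInjectiveEndo T hinj, fun u => hT.comm u trivial, fun u => hT.quad u trivial⟩

end CfsgLib.IsometryTwoQ
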