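import Cfsg.Agent.Lib.IsometryTwo.Alg
import Cfsg.Agent.Lib.FiniteForms.WittBasis

/-!
Signed value counts of quadratic forms over finite fields of characteristic two.
-/

set_option autoImplicit false
set_option linter.unusedSectionVars false

namespace CfsgLib.IsometryTwoQ

open CfsgLib.IsometryTwo QuadraticMap
open CfsgLib.FiniteForms (PolarNondeg famPerp HypFam)

universe u v w

variable {K : Type u} [Field K] [Fintype K]

open Classical in
/-- The nontrivial additive sign. -/
noncomputable def chi (a : K) : ℤ := if ∃ l : K, l + l * l = a then 1 else -1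

theorem chi_eq_one {a : K} (h : ∃ l : K, l + l * l = a) : chi a = 1 := by rw [chi, if_pos h]

theorem chi_eq_neg {a : K} (h : ¬ ∃ l : K, l + l * l = a) : chi a = -1 := by rw [chi, if_neg h]

theorem chi_zero : chi (0 : K) = 1 := chi_eq_one ⟨0, by ring⟩

theorem chi_tau (h2 : (2 : K) = 0) : chi (tau0 K) = -1 := chi_eq_neg fun ⟨l, hl⟩ => tau0_spec h2 l hl

theorem chi_cases (h2 : (2 : K) = 0) (a : K) :
    ((∃ l : K, l + l * l = a) ∧ chi a = 1) ∨ ((∃ l : K, l + l * l = a + tau0 K) ∧ chi a = -1) := by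
  by_cases h : ∃ l : K, l + l * l = a
  · exact Or.inl ⟨h, chi_eq_one h⟩
  · refine Or.inr ⟨?_, chi_eq_neg h⟩
    rcases as_dichotomy h2 a with ⟨l, hl⟩ | ⟨l, hl⟩
    · exact absurd ⟨l, by linear_combination hl - a * h2⟩ h
    · exact ⟨l, by linear_combination hl - a * h2⟩

theorem chi_add (h2 : (2 : K) = 0) (a b : K) : chi (a + b) = chi a * chi b := by
  rcases chi_cases h2 a with ⟨⟨l, hl⟩, e1⟩ | ⟨⟨l, hl⟩, e1⟩ <;>
    rcases chi_cases h2 b with ⟨⟨m, hm⟩, e2⟩ | ⟨⟨m, hm⟩, e2⟩ <;> rw [e1, e2] <;> norm_num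
  · exact chi_eq_one ⟨l + m, by linear_combination hl + hm + l * m * h2⟩
  · refine chi_eq_neg fun ⟨k, hk⟩ => tau0_spec h2 (l + m + k) ?_
    linear_combination hl + hm + hk + (l * m + l * k + m * k + a + b) * h2
  · refine chi_eq_neg fun ⟨k, hk⟩ => tau0_spec h2 (l + m + k) ?_
    linear_combination hl + hm + hk + (l * m + l * k + m * k + a + b) * h2
  · exact chi_eq_one ⟨l + m, by linear_combination hl + hm + (l * m + tau0 K) * h2⟩

theorem chi_sq (h2 : (2 : K) = 0) (a : K) : chi (a * a) = chi a := by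
  have h : chi (a + a * a) = 1 := chi_eq_one ⟨a, rfl⟩
  rw [chi_add h2] at h
  rcases Int.eq_one_or_neg_one_of_mul_eq_one h with h1 | h1 <;> rw [h1] at h ⊢ <;> omega

theorem chi_ne_zero (a : K) : chi a ≠ 0 := by
  rw [chi]; split_ifs <;> norm_num

theorem chi_sum_functional (h2 : (2 : K) = 0) {W : Type v} [AddCommGroup W] [Module K W] [Fintype W]
    (f : W →ₗ[K] K) [Decidable (f = 0)] :
    ∑ w, chi (f w) = if f = 0 then (Fintype.card W : ℤ) else 0 := by
  split_ifs with h
  · simp [h, chi_zero]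
  · obtain ⟨w₁, hw₁⟩ : ∃ w, f w ≠ 0 := by
      by_contra hne
      push_neg at hne
      exact h (LinearMap.ext hne)
    set w₀ := (tau0 K * (f w₁)⁻¹) • w₁
    have h0 : f w₀ = tau0 K := by simp [w₀, hw₁]
    have : ∑ w, chi (f w) = ∑ w, chi (f (w + w₀)) :=
      (Equiv.sum_comp (Equiv.addRight w₀) fun w => chi (f w)).symm
    simp only [map_add, h0, chi_add h2, chi_tau h2, mul_neg, mul_one, Finset.sum_neg_distrib] at this
    omega

theorem sum_chi_mul (h2 : (2 : K) = 0) (c : K) [Decidable (c = 0)] :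
    ∑ a : K, chi (c * a) = if c = 0 then (Fintype.card K : ℤ) else 0 := by
  classical
  have h := chi_sum_functional h2 (c • LinearMap.id : K →ₗ[K] K)
  simp only [LinearMap.smul_apply, LinearMap.id_apply, smul_eq_mul] at h
  rw [h]
  have hiff : (c • LinearMap.id : K →ₗ[K] K) = 0 ↔ c = 0 :=
    ⟨fun hh => by simpa using LinearMap.congr_fun hh 1, fun hh => by simp [hh]⟩
  by_cases hc : c = 0
  · rw [if_pos (hiff.mpr hc), if_pos hc]
  · rw [if_neg (mt hiff.mp hc), if_neg hc]

/-- The signed count of values. -/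
noncomputable def gauss {W : Type v} [Fintype W] (Q : W → K) : ℤ := ∑ w, chi (Q w)

theorem gauss_equiv {W : Type v} {W' : Type w} [Fintype W] [Fintype W'] {Q : W → K} {Q' : W' → K}
    (g : W ≃ W') (h : ∀ w, Q w = Q' (g w)) : gauss Q = gauss Q' := by
  rw [gauss, gauss, ← g.sum_comp]
  exact Finset.sum_congr rfl fun w _ => by rw [h]

theorem gauss_prod (h2 : (2 : K) = 0) {W : Type v} {W' : Type w} [Fintype W] [Fintype W'] {Q : W → K}
    {Q' : W' → K} {R : W × W' → K} (h : ∀ a b, R (a, b) = Q a + Q' b) : gauss R = gauss Q * gauss Q' := by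
  rw [gauss, gauss, gauss, Fintype.sum_prod_type, Finset.sum_mul_sum]
  exact Finset.sum_congr rfl fun a _ => Finset.sum_congr rfl fun b _ => by rw [h, chi_add h2]

/-- A nondegenerate form has signed count of square the size of the space. -/
theorem gauss_sq (h2 : (2 : K) = 0) {W : Type v} [AddCommGroup W] [Module K W] [Fintype W] {Q : W → K}
    {B : W →ₗ[K] W →ₗ[K] K} (hB : ∀ a b, Q (a + b) = Q a + Q b + B a b) (hnd : ∀ a, (∀ b, B b a = 0) → a = 0) :
    gauss Q * gauss Q = Fintype.card W := by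
  classical
  have hQ0 : Q 0 = 0 := by
    have h := hB 0 0
    simp only [add_zero, map_zero] at h
    linear_combination -h
  rw [gauss, Finset.sum_mul_sum]
  have h1 : ∀ a : W, ∑ b, chi (Q a) * chi (Q b) = ∑ d, chi (Q d) * chi (B a d) := fun a => by
    rw [← Equiv.sum_comp (Equiv.addLeft a) fun b => chi (Q a) * chi (Q b)]
    refine Finset.sum_congr rfl fun d _ => ?_
    rw [Equiv.coe_addLeft, ← chi_add h2, ← chi_add h2, hB]
    congr 1
    linear_combination Q a * h2
  rw [Finset.sum_congr rfl fun a _ => h1 a, Finset.sum_comm, Finset.sum_eq_single (0 : W)]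
  · simp [hQ0, chi_zero]
  · intro d _ hd
    have hne : B.flip d ≠ 0 := fun hh => hd (hnd d fun b => LinearMap.congr_fun hh b)
    have := chi_sum_functional h2 (B.flip d)
    rw [if_neg hne] at this
    simp only [LinearMap.flip_apply] at this
    rw [← Finset.mul_sum, this, mul_zero]
  · exact fun h => absurd (Finset.mem_univ _) h

theorem gauss_ne_zero (h2 : (2 : K) = 0) {W : Type v} [AddCommGroup W] [Module K W] [Fintype W] {Q : W → K}
    {B : W →ₗ[K] W →ₗ[K] K} (hB : ∀ a b, Q (a + b) = Q a + Q b + B a b) (hnd : ∀ a, (∀ b, B b a = 0) → a = 0) :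
    gauss Q ≠ 0 := by
  intro h
  have := gauss_sq h2 hB hnd
  rw [h, mul_zero] at this
  have := (Fintype.card_pos : 0 < Fintype.card W)
  omega

theorem gauss_plus (h2 : (2 : K) = 0) (m : ℕ) :
    gauss (Cfsg.quadFormPlus m K) = (Fintype.card K : ℤ) ^ m := by
  classical
  rw [gauss, ← (Equiv.sumArrowEquivProdArrow (Fin m) (Fin m) K).symm.sum_comp, Fintype.sum_prod_type]
  have h1 : ∀ u : Fin m → K, ∑ w : Fin m → K,
      chi (Cfsg.quadFormPlus m K ((Equiv.sumArrowEquivProdArrow (Fin m) (Fin m) K).symm (u, w))) =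
      if u = 0 then (Fintype.card K : ℤ) ^ m else 0 := by
    intro u
    let f : (Fin m → K) →ₗ[K] K := ∑ i, u i • LinearMap.proj i
    have hf : ∀ w, Cfsg.quadFormPlus m K ((Equiv.sumArrowEquivProdArrow (Fin m) (Fin m) K).symm (u, w)) = f w :=
      fun w => by simp [f, Cfsg.quadFormPlus, Equiv.sumArrowEquivProdArrow]
    have hiff : f = 0 ↔ u = 0 :=
      ⟨fun h => funext fun i => by simpa [f, Pi.single_apply] using LinearMap.congr_fun h (Pi.single i 1),
        fun h => by simp [f, h]⟩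
    simp only [hf]
    rw [chi_sum_functional h2]
    by_cases hu : u = 0
    · rw [if_pos (hiff.mpr hu), if_pos hu, Fintype.card_fun, Fintype.card_fin, Nat.cast_pow]
    · rw [if_neg (mt hiff.mp hu), if_neg hu]
  rw [Finset.sum_congr rfl fun u _ => h1 u, Finset.sum_ite_eq', if_pos (Finset.mem_univ _)]

/-- The binary form. -/
def binForm (a b : K) (z : K × K) : K := z.1 * z.1 + a * z.1 * z.2 + b * (z.2 * z.2)

theorem gauss_bin (h2 : (2 : K) = 0) {a b : K} (ha : a ≠ 0) :
    gauss (binForm a b) = (Fintype.card K : ℤ) * chi (b / (a * a)) := by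
  classical
  rw [gauss, Fintype.sum_prod_type, Finset.sum_comm]
  have h1 : ∀ t : K, ∑ s : K, chi (binForm a b (s, t)) =
      if t = a⁻¹ then (Fintype.card K : ℤ) * chi (b / (a * a)) else 0 := fun t => by
    have e1 : ∀ s, chi (binForm a b (s, t)) = chi ((1 + a * t) * s) * chi (b * (t * t)) := fun s => by
      rw [binForm, chi_add h2, chi_add h2, chi_sq h2, show (1 + a * t) * s = s + a * s * t by ring, chi_add h2]
    rw [Finset.sum_congr rfl fun s _ => e1 s, ← Finset.sum_mul, sum_chi_mul h2]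
    have hiff : 1 + a * t = 0 ↔ t = a⁻¹ := by
      constructor
      · intro h
        field_simp
        linear_combination h - h2
      · rintro rfl
        rw [mul_inv_cancel₀ ha]
        linear_combination h2
    by_cases ht : t = a⁻¹
    · rw [if_pos (hiff.mpr ht), if_pos ht, ht]
      congr 2
      field_simp
    · rw [if_neg (mt hiff.mp ht), if_neg ht, zero_mul]
  rw [Finset.sum_congr rfl fun t _ => h1 t, Finset.sum_ite_eq', if_pos (Finset.mem_univ _)]

theorem gauss_minus (h2 : (2 : K) = 0) (m : ℕ) {a b : K}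
    (hab : ∀ z₁ z₂ : K, z₁ ^ 2 + a * z₁ * z₂ + b * z₂ ^ 2 = 0 → z₁ = 0 ∧ z₂ = 0) :
    gauss (Cfsg.quadFormMinus m K a b) = -(Fintype.card K : ℤ) ^ (m + 1) := by
  have ha : a ≠ 0 := by
    rintro rfl
    obtain ⟨c, hc⟩ := exists_sq h2 b
    have := (hab c 1 (by linear_combination hc + b * h2)).2
    exact one_ne_zero this
  have hchi : chi (b / (a * a)) = -1 := chi_eq_neg fun ⟨l, hl⟩ => by
    have hb : b = (l + l * l) * (a * a) := by rw [hl]; field_simp
    have := (hab (a * l) 1 (by rw [hb]; linear_combination (l + l * l) * (a * a) * h2)).2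
    exact one_ne_zero this
  let g : ((Fin m ⊕ Fin m) ⊕ Fin 2 → K) ≃ ((Fin m ⊕ Fin m → K) × (K × K)) :=
    (Equiv.sumArrowEquivProdArrow _ _ _).trans ((Equiv.refl _).prodCongr (finTwoArrowEquiv K))
  let R : (Fin m ⊕ Fin m → K) × (K × K) → K := fun p => Cfsg.quadFormPlus m K p.1 + binForm a b p.2
  rw [gauss_equiv (Q' := R) g fun v => ?_,
    gauss_prod h2 (Q := Cfsg.quadFormPlus m K) (Q' := binForm a b) (R := R) fun _ _ => rfl, gauss_plus h2,
    gauss_bin h2 ha, hchi, pow_succ]
  · ring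
  · simp [R, g, Cfsg.quadFormMinus, Cfsg.quadFormPlus, binForm, Equiv.sumArrowEquivProdArrow, finTwoArrowEquiv,
      piFinTwoEquiv, pow_two]

/-- Classification by the signed count. -/
theorem exists_std (h2 : (2 : K) = 0) {V : Type v} [AddCommGroup V] [Module K V] [FiniteDimensional K V] [Fintype V]
    {Q : QuadraticForm K V} (hQ : PolarNondeg Q) {n : ℕ} (hn : 1 ≤ n) (hV : Module.finrank K V = 2 * n) :
    ((∃ g : V ≃ₗ[K] (Fin n ⊕ Fin n → K), ∀ v, Q v = Cfsg.quadFormPlus n K (g v)) ∧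
        gauss (Q : V → K) = (Fintype.card K : ℤ) ^ n) ∨
      ((∃ g : V ≃ₗ[K] ((Fin (n - 1) ⊕ Fin (n - 1)) ⊕ Fin 2 → K),
          ∀ v, Q v = Cfsg.quadFormMinus (n - 1) K 1 (tau0 K) (g v)) ∧
        gauss (Q : V → K) = -(Fintype.card K : ℤ) ^ n) := by
  rcases CfsgLib.FiniteForms.even_dichotomy hQ hn hV with ⟨e, f, h⟩ | ⟨e, f, x, y, h, hx, hy, hQx, hxy, ht, hli⟩
  · obtain ⟨g, hg⟩ := CfsgLib.FiniteForms.isometry_of_hypFam h hV
    exact Or.inl ⟨⟨g, hg⟩, by rw [gauss_equiv g.toEquiv hg, gauss_plus h2]⟩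
  · obtain ⟨l, hl⟩ : ∃ l, Q y + (l + l * l) = tau0 K := by
      rcases as_dichotomy h2 (Q y) with ⟨l, hl⟩ | h'
      · exact absurd (by linear_combination hl) (ht l)
      · exact h'
    have hxx : polar Q x x = 0 := by
      rw [polar_self, hQx]
      simpa using h2
    set y' := y + l • x with hy'
    have hy'm : y' ∈ famPerp Q e f := Submodule.add_mem _ hy (Submodule.smul_mem _ _ hx)
    have hxy' : polar Q x y' = 1 := by rw [hy', polar_add_right, polar_smul_right, hxx, smul_zero, add_zero, hxy]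
    have hQy' : Q y' = tau0 K := by
      rw [hy', QuadraticMap.map_add ⇑Q, QuadraticMap.map_smul, hQx, polar_smul_right, polar_comm ⇑Q y x, hxy,
        smul_eq_mul, smul_eq_mul, mul_one, mul_one, ← hl]
      ring
    have hli' : LinearIndependent K ![x, y'] := by
      rw [LinearIndependent.pair_iff] at hli ⊢
      intro s t hst
      rw [hy', smul_add, smul_smul, ← add_assoc, add_right_comm, ← add_smul] at hst
      obtain ⟨a1, a2⟩ := hli _ _ hst
      subst a2
      exact ⟨by simpa using a1, rfl⟩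
    obtain ⟨g, hg⟩ := CfsgLib.FiniteForms.isometry_of_elliptic h hx hy'm hxy' hQx hli' (by omega)
    rw [hQy'] at hg
    refine Or.inr ⟨⟨g, hg⟩, ?_⟩
    rw [gauss_equiv g.toEquiv hg, gauss_minus h2 (n - 1) ?_, Nat.sub_add_cancel hn]
    intro z₁ z₂ hz
    by_cases hz2 : z₂ = 0
    · subst hz2
      exact ⟨pow_eq_zero_iff two_ne_zero |>.mp (by linear_combination hz), rfl⟩
    · exfalso
      refine tau0_spec h2 (z₁ / z₂) ?_
      have e : (z₁ / z₂ + z₁ / z₂ * (z₁ / z₂) + tau0 K) * z₂ ^ 2 = 0 := by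
        field_simp
        linear_combination hz
      have := (mul_eq_zero.mp e).resolve_right (pow_ne_zero 2 hz2)
      linear_combination this - tau0 K * h2

/-- Forms with equal signed counts are isometric. -/
theorem exists_isometry (h2 : (2 : K) = 0) {V : Type v} [AddCommGroup V] [Module K V] [FiniteDimensional K V]
    [Fintype V] {V' : Type w} [AddCommGroup V'] [Module K V'] [FiniteDimensional K V'] [Fintype V']
    {Q : QuadraticForm K V} {Q' : QuadraticForm K V'} (hQ : PolarNondeg Q) (hQ' : PolarNondeg Q') {n : ℕ}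
    (hn : 1 ≤ n) (hV : Module.finrank K V = 2 * n) (hV' : Module.finrank K V' = 2 * n)
    (hG : gauss (Q : V → K) = gauss (Q' : V' → K)) : ∃ g : V ≃ₗ[K] V', ∀ v, Q v = Q' (g v) := by
  have hpos : (0 : ℤ) < (Fintype.card K : ℤ) ^ n := by
    have : 0 < Fintype.card K := Fintype.card_pos
    positivity
  rcases exists_std h2 hQ hn hV with ⟨⟨g, hg⟩, e⟩ | ⟨⟨g, hg⟩, e⟩ <;>
    rcases exists_std h2 hQ' hn hV' with ⟨⟨g', hg'⟩, e'⟩ | ⟨⟨g', hg'⟩, e'⟩
  · exact ⟨g.trans g'.symm, fun v => by rw [hg', hg, LinearEquiv.trans_apply, LinearEquiv.apply_symm_apply]⟩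
  · omega
  · omega
  · exact ⟨g.trans g'.symm, fun v => by rw [hg', hg, LinearEquiv.trans_apply, LinearEquiv.apply_symm_apply]⟩

end CfsgLib.IsometryTwoQ
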