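import Cfsg.Agent.Lib.IsometryTwoQ.Gauss
import Cfsg.Prelude.Def_Classical

/-!
Isometry groups of quadratic forms as groups of linear equivalences.
-/

set_option autoImplicit false
set_option linter.unusedSectionVars false

namespace CfsgLib.IsometryTwoQ

universe u v w

variable {K : Type u} [Field K] {V : Type v} [AddCommGroup V] [Module K V]

/-- The isometries of a quadratic form. -/
def OQ (Q : V → K) : Subgroup (V ≃ₗ[K] V) where
  carrier := {g | ∀ v, Q (g v) = Q v}
  mul_mem' {a b} ha hb := fun v => by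
    show Q (a (b v)) = Q v
    rw [ha, hb]
  one_mem' := fun _ => rfl
  inv_mem' {a} ha := fun v => by
    show Q (a.symm v) = Q v
    rw [← ha (a.symm v), LinearEquiv.apply_symm_apply]

/-- Transport along an isometry. -/
noncomputable def oqCongr {V' : Type w} [AddCommGroup V'] [Module K V'] {Q : V → K} {Q' : V' → K} (g : V ≃ₗ[K] V')
    (h : ∀ v, Q v = Q' (g v)) : OQ Q ≃* OQ Q' where
  toFun a := ⟨(g.symm.trans a.1).trans g, fun v => by
    show Q' (g (a.1 (g.symm v))) = Q' v
    rw [← h, a.2, h, LinearEquiv.apply_symm_apply]⟩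
  invFun a := ⟨(g.trans a.1).trans g.symm, fun v => by
    show Q (g.symm (a.1 (g v))) = Q v
    rw [h, LinearEquiv.apply_symm_apply, a.2, ← h]⟩
  left_inv a := Subtype.ext (LinearEquiv.ext fun v => by simp)
  right_inv a := Subtype.ext (LinearEquiv.ext fun v => by simp)
  map_mul' a b := Subtype.ext (LinearEquiv.ext fun v => by
    show g (a.1 (b.1 (g.symm v))) = g (a.1 (g.symm (g (b.1 (g.symm v)))))
    rw [LinearEquiv.symm_apply_apply])

theorem card_classes_congr {G : Type v} {H : Type w} [Group G] [Group H] (e : G ≃* H) :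
    Nat.card (ConjClasses G) = Nat.card (ConjClasses H) := by
  refine Nat.card_congr (Equiv.ofBijective (ConjClasses.map e.toMonoidHom) ⟨?_, ?_⟩)
  · intro a b hab
    obtain ⟨x, rfl⟩ := ConjClasses.mk_surjective a
    obtain ⟨y, rfl⟩ := ConjClasses.mk_surjective b
    have h1 : IsConj (e x) (e y) := ConjClasses.mk_eq_mk_iff_isConj.mp hab
    have h3 := e.symm.toMonoidHom.map_isConj h1
    rw [ConjClasses.mk_eq_mk_iff_isConj]
    simpa using h3
  · intro c
    obtain ⟨y, rfl⟩ := ConjClasses.mk_surjective c
    exact ⟨ConjClasses.mk (e.symm y), congrArg ConjClasses.mk (e.apply_symm_apply y)⟩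

variable {ι : Type} [Fintype ι] [DecidableEq ι]

/-- Matrices and linear equivalences. -/
noncomputable def glEquiv : Matrix.GeneralLinearGroup ι K ≃* ((ι → K) ≃ₗ[K] (ι → K)) :=
  Matrix.GeneralLinearGroup.toLin.trans (LinearMap.GeneralLinearGroup.generalLinearEquiv K (ι → K))

theorem glEquiv_apply (g : Matrix.GeneralLinearGroup ι K) (v : ι → K) : glEquiv g v = g.1.mulVec v := by
  simp [glEquiv, LinearMap.GeneralLinearGroup.generalLinearEquiv, LinearMap.GeneralLinearGroup.toLinearEquiv,
    Matrix.GeneralLinearGroup.coe_toLin]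

/-- The matrix isometry group as a group of linear equivalences. -/
noncomputable def isometryEquiv (Q : (ι → K) → K) : ↥(Cfsg.isometryGroup K Q) ≃* OQ Q :=
  (Subgroup.equivMapOfInjective (Cfsg.isometryGroup K Q) (glEquiv (K := K) (ι := ι)).toMonoidHom
    (glEquiv (K := K) (ι := ι)).injective).trans (MulEquiv.subgroupCongr (by
    ext a
    constructor
    · rintro ⟨g, hg, rfl⟩ v
      show Q (glEquiv g v) = Q v
      rw [glEquiv_apply]
      exact hg v v
    · intro ha
      obtain ⟨g, rfl⟩ := glEquiv.surjective a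
      refine ⟨g, fun v _ => ?_, rfl⟩
      have := ha v
      rwa [glEquiv_apply] at this))

end CfsgLib.IsometryTwoQ
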