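import Cfsg.Agent.Lib.IsometryTwoQ.Model

/-!
A lower bound for the number of classes of an orthogonal group of characteristic two.
-/

set_option autoImplicit false
set_option linter.unusedSectionVars false

namespace CfsgLib.IsometryTwoQ

open Polynomial CfsgLib.IsometryTwo CfsgLib.FiniteForms

universe u v

variable {K : Type u} [Field K] [Fintype K]

/-- Monic polynomials of fixed degree. -/
def MonicDeg (K : Type u) [Field K] (n : ℕ) : Type u := {h : K[X] // h.Monic ∧ h.natDegree = n}

theorem card_monicDeg (n : ℕ) : Nat.card (MonicDeg K n) = Fintype.card K ^ n := by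
  show Nat.card {h : K[X] // h.Monic ∧ h.natDegree = n} = _
  rw [Nat.card_congr ((monicEquivDegreeLT n).trans (degreeLTEquiv K n).toEquiv), Nat.card_fun,
    Nat.card_eq_fintype_card (α := K), Nat.card_fin]

theorem finite_monicDeg (n : ℕ) : Finite (MonicDeg K n) :=
  Finite.of_equiv _ ((monicEquivDegreeLT n).trans (degreeLTEquiv K n).toEquiv).symm

/-- The polynomials realised with a prescribed sign. -/
def Realised (n : ℕ) (ε : ℤ) (f : MonicDeg K n) : Prop :=
  f.1.coeff 0 = 0 ∨ chi (f.1.coeff 1 / f.1.coeff 0) = ε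

theorem card_realised (h2 : (2 : K) = 0) {n : ℕ} (hn : 2 ≤ n) {ε : ℤ} (hε : ε = 1 ∨ ε = -1) :
    Fintype.card K ^ n ≤ 2 * Nat.card {f : MonicDeg K n // Realised n ε f} := by
  classical
  haveI := finite_monicDeg (K := K) n
  let flip : MonicDeg K n → MonicDeg K n := fun f => ⟨f.1 + C (tau0 K * f.1.coeff 0) * X, by
    have hd : (C (tau0 K * f.1.coeff 0) * X).degree < f.1.degree := by
      refine (degree_C_mul_X_le _).trans_lt ?_
      rw [degree_eq_natDegree f.2.1.ne_zero, f.2.2]
      exact_mod_cast hn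
    exact ⟨f.2.1.add_of_left hd, by rw [natDegree_add_eq_left_of_degree_lt hd, f.2.2]⟩⟩
  have hc : ∀ f : MonicDeg K n, (flip f).1.coeff 0 = f.1.coeff 0 ∧
      (flip f).1.coeff 1 = f.1.coeff 1 + tau0 K * f.1.coeff 0 := fun f => by
    constructor <;> simp [flip, coeff_C_mul, coeff_X]
  have hinj : Function.Injective flip := by
    intro f f' e
    have h0 : f.1.coeff 0 = f'.1.coeff 0 := by rw [← (hc f).1, ← (hc f').1, e]
    have e' : f.1 + C (tau0 K * f.1.coeff 0) * X = f'.1 + C (tau0 K * f'.1.coeff 0) * X :=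
      congrArg Subtype.val e
    rw [h0] at e'
    exact Subtype.ext (add_right_cancel e')
  let Φ : {f : MonicDeg K n // ¬ Realised n ε f} → {f : MonicDeg K n // Realised n ε f} := fun f =>
    ⟨flip f.1, by
      have hf := f.2
      simp only [Realised, not_or] at hf
      refine Or.inr ?_
      rw [(hc _).1, (hc _).2, add_div, mul_div_cancel_right₀ _ hf.1, chi_add h2, chi_tau h2]
      rcases chi_cases h2 (f.1.1.coeff 1 / f.1.1.coeff 0) with ⟨-, e⟩ | ⟨-, e⟩ <;> rw [e] at hf ⊢ <;>
        rcases hε with rfl | rfl <;> first | exact absurd rfl hf.2 | norm_num⟩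
  have hΦ : Function.Injective Φ := fun f f' e => Subtype.ext (hinj (congrArg Subtype.val e))
  have h1 := Nat.card_le_card_of_injective Φ hΦ
  have h3 := card_monicDeg (K := K) n
  rw [← Nat.card_congr (Equiv.sumCompl fun f : MonicDeg K n => Realised n ε f), Nat.card_sum] at h3
  omega

variable {V : Type v} [AddCommGroup V] [Module K V] [FiniteDimensional K V] [Fintype V]

theorem charpoly_conj_sum {W : Type*} [AddCommGroup W] [Module K W] [FiniteDimensional K W] (e : W ≃ₗ[K] V)
    (g : W ≃ₗ[K] W) :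
    (((e.symm.trans g).trans e).toLinearMap + ((e.symm.trans g).trans e).symm.toLinearMap).charpoly =
      (g.toLinearMap + g.symm.toLinearMap).charpoly := by
  rw [← LinearEquiv.charpoly_conj e (g.toLinearMap + g.symm.toLinearMap)]
  congr 1
  exact LinearMap.ext fun v => by simp [LinearEquiv.conj_apply]

/-- A nondegenerate form in even dimension has at least half of `q ^ n` classes. -/
theorem classes_lower (h2 : (2 : K) = 0) {Q : QuadraticForm K V} (hQ : PolarNondeg Q) {n : ℕ} (hn : 2 ≤ n)
    (hV : Module.finrank K V = 2 * n) :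
    Fintype.card K ^ n ≤ 2 * Nat.card (ConjClasses ↥(OQ (Q : V → K))) := by
  classical
  haveI : Finite (V ≃ₗ[K] V) := Finite.of_injective (fun g : V ≃ₗ[K] V => (g : V → V)) DFunLike.coe_injective
  haveI : Finite ↥(OQ (Q : V → K)) := Subtype.finite
  set q := Fintype.card K with hq
  have hq0 : 0 < q := Fintype.card_pos
  obtain ⟨ε, hε, hG⟩ : ∃ ε : ℤ, (ε = 1 ∨ ε = -1) ∧ gauss (Q : V → K) = (q : ℤ) ^ n * ε := by
    rcases exists_std h2 hQ (by omega) hV with ⟨-, e⟩ | ⟨-, e⟩
    · exact ⟨1, Or.inl rfl, by rw [e, mul_one]⟩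
    · exact ⟨-1, Or.inr rfl, by rw [e, mul_neg_one]⟩
  have hex : ∀ f : MonicDeg K n, Realised n ε f →
      ∃ g : ↥(OQ (Q : V → K)), (g.1.toLinearMap + g.1.symm.toLinearMap).charpoly = f.1 * f.1 := by
    intro f hf
    by_cases h0 : f.1.coeff 0 = 0
    · set h := divX f.1 with hdef
      have ef : f.1 = X * h := by
        conv_lhs => rw [← X_mul_divX_add f.1, h0, map_zero, add_zero]
      have hm : h.Monic := monic_X.of_mul_monic_left (ef ▸ f.2.1)
      have hd : h.natDegree = n - 1 := by
        rw [hdef, natDegree_divX_eq_natDegree_tsub_one, f.2.2]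
      haveI : Module.Finite K (AdjoinRoot h) := hm.finite_adjoinRoot
      haveI : Finite (AdjoinRoot h) := Module.finite_of_finite K
      letI : Fintype (AdjoinRoot h × AdjoinRoot h) := Fintype.ofFinite _
      obtain ⟨Q₁, g₁, hg₁, hnd₁, hcp, -⟩ := exists_model h2 hm (by omega)
      have hW : Module.finrank K (AdjoinRoot h × AdjoinRoot h) = 2 * (n - 1) := by
        rw [Module.finrank_prod, (AdjoinRoot.powerBasis' hm).finrank, AdjoinRoot.powerBasis'_dim, hd]
        ring
      obtain ⟨ε₁, hε₁, hG₁⟩ : ∃ ε : ℤ, (ε = 1 ∨ ε = -1) ∧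
          gauss (Q₁ : AdjoinRoot h × AdjoinRoot h → K) = (q : ℤ) ^ (n - 1) * ε := by
        rcases exists_std h2 hnd₁ (by omega) hW with ⟨-, e⟩ | ⟨-, e⟩
        · exact ⟨1, Or.inl rfl, by rw [e, mul_one]⟩
        · exact ⟨-1, Or.inr rfl, by rw [e, mul_neg_one]⟩
      obtain ⟨c, hc⟩ : ∃ c : K, chi c = ε * ε₁ := by
        rcases hε with rfl | rfl <;> rcases hε₁ with rfl | rfl
        exacts [⟨0, by rw [chi_zero]; norm_num⟩, ⟨tau0 K, by rw [chi_tau h2]; norm_num⟩,
          ⟨tau0 K, by rw [chi_tau h2]; norm_num⟩, ⟨0, by rw [chi_zero]; norm_num⟩]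
      let Q₂ : QuadraticForm K (K × K) := QuadraticMap.linMulLin (LinearMap.fst K K K) (LinearMap.fst K K K) +
        QuadraticMap.linMulLin (LinearMap.fst K K K) (LinearMap.snd K K K) +
        c • QuadraticMap.linMulLin (LinearMap.snd K K K) (LinearMap.snd K K K)
      have hQ₂ : ∀ z, Q₂ z = binForm 1 c z := fun z => by simp [Q₂, binForm]
      let Q' : QuadraticForm K ((AdjoinRoot h × AdjoinRoot h) × (K × K)) := Q₁.prod Q₂
      have hnd' : PolarNondeg Q' := by
        rintro ⟨a, s, t⟩ hp
        have ha : a = 0 := hnd₁ a fun b => by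
          have := hp (b, 0)
          simpa [Q', QuadraticMap.polar] using this
        have h10 := hp (0, (1, 0))
        have h01 := hp (0, (0, 1))
        simp only [Q', QuadraticMap.polar, QuadraticMap.prod_apply, Prod.fst_add, Prod.snd_add, Prod.mk_add_mk,
          add_zero, QuadraticMap.map_zero, zero_add, hQ₂, binForm] at h10 h01
        have ht : t = 0 := by linear_combination h10 - s * h2
        have hs : s = 0 := by linear_combination h01 - c * t * h2
        simp [ha, hs, ht]
      let g' : ((AdjoinRoot h × AdjoinRoot h) × (K × K)) ≃ₗ[K] ((AdjoinRoot h × AdjoinRoot h) × (K × K)) :=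
        g₁.prodCongr (LinearEquiv.refl K (K × K))
      have hg' : g' ∈ OQ (Q' : (AdjoinRoot h × AdjoinRoot h) × (K × K) → K) := fun p => by
        simp [g', Q', hg₁ p.1]
      have hG' : gauss (Q' : (AdjoinRoot h × AdjoinRoot h) × (K × K) → K) = gauss (Q : V → K) := by
        rw [gauss_prod h2 (Q := (Q₁ : AdjoinRoot h × AdjoinRoot h → K)) (Q' := binForm 1 c) fun a b => by
          simp [Q', hQ₂], gauss_bin h2 one_ne_zero, hG₁, one_mul, div_one, hc, hG,
          show (q : ℤ) ^ n = (q : ℤ) ^ (n - 1) * q by rw [← pow_succ, Nat.sub_add_cancel (by omega : 1 ≤ n)]]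
        rcases hε₁ with rfl | rfl <;> ring
      obtain ⟨e, he⟩ := exists_isometry h2 hnd' hQ (n := n) (by omega)
        (by rw [Module.finrank_prod, hW, Module.finrank_prod, Module.finrank_self]; omega) hV hG'
      refine ⟨⟨(e.symm.trans g').trans e, (oqCongr e he ⟨g', hg'⟩).2⟩, ?_⟩
      show (((e.symm.trans g').trans e).toLinearMap + ((e.symm.trans g').trans e).symm.toLinearMap).charpoly = _
      rw [charpoly_conj_sum]
      have esum : g'.toLinearMap + g'.symm.toLinearMap =
          (g₁.toLinearMap + g₁.symm.toLinearMap).prodMap (0 : K × K →ₗ[K] K × K) := by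
        refine LinearMap.ext fun p => Prod.ext rfl ?_
        show p.2 + p.2 = 0
        rw [← two_smul K p.2, h2, zero_smul]
      rw [esum, LinearMap.charpoly_prodMap, hcp, LinearMap.charpoly_zero, Module.finrank_prod, Module.finrank_self,
        ef]
      ring
    · haveI : Module.Finite K (AdjoinRoot f.1) := f.2.1.finite_adjoinRoot
      haveI : Finite (AdjoinRoot f.1) := Module.finite_of_finite K
      letI : Fintype (AdjoinRoot f.1 × AdjoinRoot f.1) := Fintype.ofFinite _
      obtain ⟨Q₁, g₁, hg₁, hnd₁, hcp, hg⟩ := exists_model h2 f.2.1 (by rw [f.2.2]; omega)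
      have hG' : gauss (Q₁ : AdjoinRoot f.1 × AdjoinRoot f.1 → K) = gauss (Q : V → K) := by
        rw [hg h0, f.2.2, hG, hf.resolve_left h0]
      obtain ⟨e, he⟩ := exists_isometry h2 hnd₁ hQ (n := n) (by omega)
        (by rw [Module.finrank_prod, (AdjoinRoot.powerBasis' f.2.1).finrank, AdjoinRoot.powerBasis'_dim, f.2.2]; ring)
        hV hG'
      refine ⟨⟨(e.symm.trans g₁).trans e, (oqCongr e he ⟨g₁, hg₁⟩).2⟩, ?_⟩
      show (((e.symm.trans g₁).trans e).toLinearMap + ((e.symm.trans g₁).trans e).symm.toLinearMap).charpoly = _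
      rw [charpoly_conj_sum, hcp]
  choose! gf hgf using hex
  refine (card_realised h2 hn hε).trans (Nat.mul_le_mul_left 2 ?_)
  refine Nat.card_le_card_of_injective (fun f : {f : MonicDeg K n // Realised n ε f} => ConjClasses.mk (gf f.1)) ?_
  intro f f' h
  obtain ⟨c, hc⟩ := isConj_iff.mp (ConjClasses.mk_eq_mk_iff_isConj.mp h)
  have e1 := hgf f.1 f.2
  have e2 := hgf f'.1 f'.2
  have hh : (gf f'.1).1 = (c.1.symm.trans (gf f.1).1).trans c.1 := by
    rw [← hc]
    rfl
  rw [hh, charpoly_conj_sum, e1] at e2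
  have h0 : (f.1.1 - f'.1.1) * (f.1.1 - f'.1.1) = 0 := by
    linear_combination e2 + (f'.1.1 * f'.1.1 - f.1.1 * f'.1.1) * two_poly h2
  exact Subtype.ext (Subtype.ext (sub_eq_zero.mp ((mul_eq_zero.mp h0).elim id id)))

end CfsgLib.IsometryTwoQ
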