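import Cfsg.Agent.Lib.IsometryTwoQ.Group

/-!
An isometry of a quadratic form of characteristic two attached to every monic polynomial.
-/

set_option autoImplicit false
set_option linter.unusedSectionVars false

namespace CfsgLib.IsometryTwoQ

open Polynomial CfsgLib.IsometryTwo CfsgLib.FiniteForms

universe u

variable {K : Type u} [Field K] [Fintype K]

theorem exists_poly_sq (h2 : (2 : K) = 0) (P : K[X]) (hP : derivative P = 0) : ∃ s : K[X], s * s = P := by
  classical
  haveI : CharP K[X] 2 := by
    haveI : CharP K 2 := CharP.charP_iff_prime_eq_zero Nat.prime_two |>.mpr (by exact_mod_cast h2)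
    infer_instance
  choose c hc using exists_sq h2
  refine ⟨∑ i ∈ Finset.range (P.natDegree + 1), C (c (P.coeff (2 * i))) * X ^ i, ?_⟩
  rw [CharTwo.sum_mul_self]
  refine Polynomial.ext fun j => ?_
  have e : ∀ i, C (c (P.coeff (2 * i))) * X ^ i * (C (c (P.coeff (2 * i))) * X ^ i) =
      C (P.coeff (2 * i)) * X ^ (2 * i) := fun i => by
    rw [mul_mul_mul_comm, ← C_mul, hc, ← pow_add, two_mul]
  rw [finset_sum_coeff, Finset.sum_congr rfl fun i _ => by rw [e i, coeff_C_mul, coeff_X_pow]]
  rcases Nat.even_or_odd' j with ⟨k, rfl | rfl⟩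
  · rw [Finset.sum_eq_single k]
    · simp
    · intro i _ hi
      simp [Ne.symm hi]
    · intro hk
      rw [Finset.mem_range] at hk
      rw [coeff_eq_zero_of_natDegree_lt (show P.natDegree < 2 * k by omega), zero_mul]
  · rw [Finset.sum_eq_zero fun i _ => by simp [show ¬ 2 * k + 1 = 2 * i by omega]]
    have h1 := congrArg (fun p => p.coeff (2 * k)) hP
    simp only [coeff_derivative, coeff_zero] at h1
    push_cast at h1
    rw [show (2 : K) * (k : K) + 1 = 1 by rw [h2, zero_mul, zero_add], mul_one] at h1
    exact h1.symm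

variable {h : K[X]}

/-- The top coefficient of the reduced representative. -/
noncomputable def topF (hm : h.Monic) : AdjoinRoot h →ₗ[K] K :=
  (lcoeff K (h.natDegree - 1)).comp (AdjoinRoot.modByMonicHom hm)

theorem topF_mk (hm : h.Monic) (P : K[X]) : topF hm (AdjoinRoot.mk h P) = (P %ₘ h).coeff (h.natDegree - 1) := by
  rw [topF, LinearMap.comp_apply, AdjoinRoot.modByMonicHom_mk, lcoeff_apply]

theorem topF_nondeg (hm : h.Monic) {a : AdjoinRoot h} (ha : ∀ b, topF hm (b * a) = 0) : a = 0 := by
  obtain ⟨P, rfl⟩ := AdjoinRoot.mk_surjective a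
  have hred : AdjoinRoot.mk h P = AdjoinRoot.mk h (P %ₘ h) :=
    AdjoinRoot.mk_eq_mk.mpr ⟨P /ₘ h, by linear_combination -(modByMonic_add_div P h)⟩
  rw [hred] at ha ⊢
  set A := P %ₘ h
  by_contra hne
  have hA : A ≠ 0 := fun e => hne (by rw [e, map_zero])
  have hAd : A.natDegree < h.natDegree := natDegree_lt_natDegree hA (degree_modByMonic_lt _ hm)
  have := ha (AdjoinRoot.mk h (X ^ (h.natDegree - 1 - A.natDegree)))
  rw [← map_mul, topF_mk, (modByMonic_eq_self_iff hm).mpr, coeff_X_pow_mul', if_pos (by omega),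
    show h.natDegree - 1 - (h.natDegree - 1 - A.natDegree) = A.natDegree by omega] at this
  · exact leadingCoeff_ne_zero.mpr hA this
  · refine degree_lt_degree ?_
    rw [natDegree_mul (pow_ne_zero _ X_ne_zero) hA, natDegree_X_pow]
    omega

theorem deriv_sq (h2 : (2 : K) = 0) (P : K[X]) : derivative (P * P) = 0 := by
  rw [derivative_mul]
  linear_combination derivative P * P * two_poly h2

/-- The semilinear adjoint of multiplication by the variable. -/
theorem topF_sq (h2 : (2 : K) = 0) (hm : h.Monic) (hn : 1 ≤ h.natDegree) {s : K[X]}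
    (hs : s * s = derivative (X * h)) (a : AdjoinRoot h) :
    topF hm (AdjoinRoot.root h * (a * a)) = topF hm (a * AdjoinRoot.mk h s) * topF hm (a * AdjoinRoot.mk h s) := by
  obtain ⟨W, rfl⟩ := AdjoinRoot.mk_surjective a
  rw [← AdjoinRoot.mk_X, ← map_mul (AdjoinRoot.mk h) W W, ← map_mul (AdjoinRoot.mk h) X,
    ← map_mul (AdjoinRoot.mk h) W s, topF_mk, topF_mk]
  set n := h.natDegree
  set a := (X * (W * W)) /ₘ h with ha
  set S := (X * (W * W)) %ₘ h with hSdef
  set k := (W * s) /ₘ h
  set R := (W * s) %ₘ h with hRdef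
  have e1 : S + h * a = X * (W * W) := modByMonic_add_div _ _
  have e2 : R + h * k = W * s := modByMonic_add_div _ _
  have e3 : derivative S + (derivative h * a + h * derivative a) = W * W := by
    have := congrArg derivative e1
    rw [derivative_add, derivative_mul, derivative_mul, derivative_X, one_mul, deriv_sq h2, mul_zero, add_zero] at this
    exact this
  rw [derivative_mul, derivative_X, one_mul] at hs
  have key : R * R + derivative (h * S) = h * h * (derivative a + k * k) := by
    rw [derivative_mul]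
    linear_combination (R + h * k + W * s) * e2 + W * W * hs - h * e3 - derivative h * e1 +
      (derivative h * S + h * derivative S + h * derivative h * a - h * k * R - h * h * (k * k)) * two_poly h2
  have hRd : R.natDegree ≤ n - 1 := by
    rcases eq_or_ne R 0 with e | e
    · simp [e]
    · have : R.natDegree < n := natDegree_lt_natDegree e (degree_modByMonic_lt _ hm)
      omega
  have hSd : S.natDegree ≤ n - 1 := by
    rcases eq_or_ne S 0 with e | e
    · simp [e]
    · have : S.natDegree < n := natDegree_lt_natDegree e (degree_modByMonic_lt _ hm)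
      omega
  have hlhs : (R * R + derivative (h * S)).natDegree ≤ 2 * n - 2 := by
    refine natDegree_add_le_of_degree_le (natDegree_mul_le.trans (by omega)) ((natDegree_derivative_le _).trans ?_)
    have := natDegree_mul_le (p := h) (q := S)
    omega
  have hz : R * R + derivative (h * S) = 0 := by
    rw [key]
    by_contra hne
    have h1 : derivative a + k * k ≠ 0 := fun e => hne (by rw [e, mul_zero])
    rw [key, natDegree_mul (mul_ne_zero hm.ne_zero hm.ne_zero) h1, natDegree_mul hm.ne_zero hm.ne_zero] at hlhs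
    omega
  have hc := congrArg (fun p => p.coeff (2 * n - 2)) hz
  simp only [coeff_add, coeff_zero, coeff_derivative] at hc
  rw [show 2 * n - 2 = (n - 1) + (n - 1) by omega, coeff_mul_add_eq_of_natDegree_le hRd hRd,
    show (n - 1) + (n - 1) + 1 = n + (n - 1) by omega, coeff_mul_add_eq_of_natDegree_le le_rfl hSd,
    hm.coeff_natDegree, one_mul] at hc
  have hodd : (((n - 1 + (n - 1) : ℕ) : K) + 1) = 1 := by
    push_cast
    linear_combination ((n - 1 : ℕ) : K) * h2
  rw [hodd, mul_one] at hc
  linear_combination hc - (R.coeff (n - 1) * R.coeff (n - 1)) * h2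

/-- The square root of the derivative divided by the variable. -/
theorem exists_r (h2 : (2 : K) = 0) (hm : h.Monic) (hn : 1 ≤ h.natDegree) :
    ∃ r : AdjoinRoot h,
      (∀ a, topF hm (AdjoinRoot.root h * (a * a)) =
        topF hm (a * (AdjoinRoot.root h * r)) * topF hm (a * (AdjoinRoot.root h * r))) ∧
      (h.coeff 0 ≠ 0 → topF hm (r * r) = h.coeff 1 / h.coeff 0) := by
  have hdd : derivative (derivative (X * h)) = 0 := by
    ext i
    rw [coeff_derivative, coeff_derivative, coeff_zero, mul_assoc]
    have : (((i + 1 : ℕ) : K) + 1) * ((i : K) + 1) = 0 := by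
      rcases Nat.even_or_odd' i with ⟨k, rfl | rfl⟩
      · push_cast
        linear_combination ((k : K) + 1) * (2 * (k : K) + 1) * h2
      · push_cast
        linear_combination ((k : K) + 1) * (2 * (k : K) + 3) * h2
    rw [this, mul_zero]
  obtain ⟨s, hs⟩ := exists_poly_sq h2 _ hdd
  by_cases h0 : h.coeff 0 = 0
  · have hs0 : s.coeff 0 = 0 := by
      have := congrArg (fun p => p.coeff 0) hs
      simp only [mul_coeff_zero, coeff_derivative, coeff_X_mul, h0, zero_mul] at this
      exact (mul_eq_zero.mp this).elim id id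
    refine ⟨AdjoinRoot.mk h (divX s), fun a => ?_, fun hh => absurd h0 hh⟩
    have e : s = X * divX s := by
      conv_lhs => rw [← X_mul_divX_add s, hs0, map_zero, add_zero]
    have e' : AdjoinRoot.mk h s = AdjoinRoot.root h * AdjoinRoot.mk h (divX s) := by
      conv_lhs => rw [e]
      rw [map_mul, AdjoinRoot.mk_X]
    rw [topF_sq h2 hm hn hs, e']
  · obtain ⟨c, b, hcb⟩ : IsCoprime (X : K[X]) h := irreducible_X.coprime_iff_not_dvd.mpr (by rwa [X_dvd_iff])
    have hr : AdjoinRoot.root h * AdjoinRoot.mk h (c * s) = AdjoinRoot.mk h s := by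
      rw [← AdjoinRoot.mk_X, ← map_mul, AdjoinRoot.mk_eq_mk]
      exact ⟨-b * s, by linear_combination s * hcb⟩
    refine ⟨AdjoinRoot.mk h (c * s), fun a => by rw [hr]; exact topF_sq h2 hm hn hs a, fun _ => ?_⟩
    set e := h.coeff 1 / h.coeff 0
    set M := derivative h + C e * h with hM
    have hM0 : M.coeff 0 = 0 := by
      rw [hM, coeff_add, coeff_C_mul, coeff_derivative]
      simp only [Nat.cast_zero, zero_add, mul_one, e]
      rw [div_mul_cancel₀ _ h0]
      linear_combination h.coeff 1 * h2
    have eM : M = X * divX M := by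
      conv_lhs => rw [← X_mul_divX_add M, hM0, map_zero, add_zero]
    have hMd : M.natDegree ≤ h.natDegree := natDegree_add_le_of_degree_le
      ((natDegree_derivative_le _).trans (Nat.sub_le _ _)) (natDegree_C_mul_le _ _)
    have hMn : M.coeff h.natDegree = e := by
      rw [hM, coeff_add, coeff_C_mul, hm.coeff_natDegree, mul_one,
        coeff_eq_zero_of_natDegree_lt ((natDegree_derivative_le h).trans_lt (by omega)), zero_add]
    have hsq : AdjoinRoot.mk h (c * s) * AdjoinRoot.mk h (c * s) = AdjoinRoot.mk h (divX M) := by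
      have hu : IsUnit (AdjoinRoot.mk h (X * X)) := by
        refine IsUnit.of_mul_eq_one (AdjoinRoot.mk h (c * c)) ?_
        rw [← map_mul, ← map_one (AdjoinRoot.mk h), AdjoinRoot.mk_eq_mk]
        exact ⟨-b * (c * X + 1), by linear_combination (c * X + 1) * hcb⟩
      apply hu.mul_left_cancel
      rw [← map_mul, ← map_mul, ← map_mul, AdjoinRoot.mk_eq_mk]
      refine ⟨c * c * X * X - X * C e + derivative h * X * (-b) * (1 + c * X), ?_⟩
      rw [derivative_mul, derivative_X, one_mul] at hs
      rw [hM] at eM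
      linear_combination c * c * X * X * hs + X * eM + derivative h * X * (1 + c * X) * hcb
    rw [hsq, topF_mk, (modByMonic_eq_self_iff hm).mpr, coeff_divX, Nat.sub_add_cancel hn, hMn]
    rcases eq_or_ne (divX M) 0 with hz | hz
    · rw [hz, degree_zero]
      exact bot_lt_iff_ne_bot.mpr (fun hb => hm.ne_zero (degree_eq_bot.mp hb))
    · refine degree_lt_degree ?_
      rw [natDegree_divX_eq_natDegree_tsub_one]
      omega

/-- A quadratic form on pairs fixed by the companion transformation. -/
theorem exists_model (h2 : (2 : K) = 0) (hm : h.Monic) (hn : 1 ≤ h.natDegree)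
    [hF : Fintype (AdjoinRoot h × AdjoinRoot h)] :
    ∃ (Q : QuadraticForm K (AdjoinRoot h × AdjoinRoot h))
      (g : (AdjoinRoot h × AdjoinRoot h) ≃ₗ[K] (AdjoinRoot h × AdjoinRoot h)),
      g ∈ OQ (Q : AdjoinRoot h × AdjoinRoot h → K) ∧ PolarNondeg Q ∧
      (g.toLinearMap + g.symm.toLinearMap).charpoly = h * h ∧
      (h.coeff 0 ≠ 0 → gauss (Q : AdjoinRoot h × AdjoinRoot h → K) =
        (Fintype.card K : ℤ) ^ h.natDegree * chi (h.coeff 1 / h.coeff 0)) := by
  classical
  haveI : Module.Finite K (AdjoinRoot h) := hm.finite_adjoinRoot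
  haveI : Finite (AdjoinRoot h) := Module.finite_of_finite K
  letI : Fintype (AdjoinRoot h) := Fintype.ofFinite _
  obtain ⟨r, hr, hrr⟩ := exists_r h2 hm hn
  set y := AdjoinRoot.root h
  set φ := topF hm
  let ℓ₁ : AdjoinRoot h × AdjoinRoot h →ₗ[K] K :=
    φ.comp ((LinearMap.mulRight K r).comp (LinearMap.fst K _ _))
  let ℓ₂ : AdjoinRoot h × AdjoinRoot h →ₗ[K] K :=
    φ.comp ((LinearMap.mulRight K r).comp (LinearMap.snd K _ _))
  let β : LinearMap.BilinMap K (AdjoinRoot h × AdjoinRoot h) K :=
    ((LinearMap.mul K (AdjoinRoot h)).compl₁₂ (LinearMap.fst K _ _) (LinearMap.snd K _ _)).compr₂ φ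
  let Q : QuadraticForm K (AdjoinRoot h × AdjoinRoot h) :=
    LinearMap.BilinMap.toQuadraticMap β + QuadraticMap.linMulLin ℓ₁ ℓ₁ + QuadraticMap.linMulLin ℓ₂ ℓ₂
  have hQ : ∀ p, Q p = φ (p.1 * p.2) + φ (p.1 * r) * φ (p.1 * r) + φ (p.2 * r) * φ (p.2 * r) := fun p => rfl
  let g : (AdjoinRoot h × AdjoinRoot h) ≃ₗ[K] (AdjoinRoot h × AdjoinRoot h) :=
    { toFun := fun p => (p.2, p.1 + y * p.2)
      map_add' := fun a b => by
        simp only [Prod.fst_add, Prod.snd_add, Prod.mk_add_mk, Prod.mk.injEq, true_and]
        ring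
      map_smul' := fun c a => by simp [smul_add, mul_smul_comm]
      invFun := fun p => (p.2 - y * p.1, p.1)
      left_inv := fun p => by simp
      right_inv := fun p => by simp }
  have htwo : ∀ a : AdjoinRoot h, a + a = 0 := fun a => by
    rw [← two_smul K a, h2, zero_smul]
  refine ⟨Q, g, fun p => ?_, fun p hp => ?_, ?_, fun h0 => ?_⟩
  · rw [hQ, hQ]
    show φ (p.2 * (p.1 + y * p.2)) + φ (p.2 * r) * φ (p.2 * r) + φ ((p.1 + y * p.2) * r) * φ ((p.1 + y * p.2) * r) = _
    have h3 := hr p.2
    rw [show p.2 * (p.1 + y * p.2) = p.1 * p.2 + y * (p.2 * p.2) by ring, map_add, h3,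
      show (p.1 + y * p.2) * r = p.1 * r + p.2 * (y * r) by ring, map_add]
    linear_combination (φ (p.2 * (y * r)) * φ (p.2 * (y * r)) + φ (p.1 * r) * φ (p.2 * (y * r))) * h2
  · have hpol : ∀ q, QuadraticMap.polar Q p q = φ (p.1 * q.2 + q.1 * p.2) := fun q => by
      rw [QuadraticMap.polar, hQ, hQ, hQ]
      simp only [Prod.fst_add, Prod.snd_add]
      rw [show (p.1 + q.1) * (p.2 + q.2) = p.1 * p.2 + q.1 * q.2 + (p.1 * q.2 + q.1 * p.2) by ring,
        add_mul, add_mul]
      simp only [map_add]
      linear_combination (φ (p.1 * r) * φ (q.1 * r) + φ (p.2 * r) * φ (q.2 * r)) * h2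
    refine Prod.ext (topF_nondeg hm fun b => ?_) (topF_nondeg hm fun b => ?_)
    · have := hp (0, b)
      rw [hpol] at this
      simpa [mul_comm] using this
    · have := hp (b, 0)
      rw [hpol] at this
      simpa [mul_comm] using this
  · have e : g.toLinearMap + g.symm.toLinearMap = (LinearMap.mulLeft K y).prodMap (LinearMap.mulLeft K y) := by
      refine LinearMap.ext fun p => ?_
      show ((p.2, p.1 + y * p.2) : AdjoinRoot h × AdjoinRoot h) + (p.2 - y * p.1, p.1) = (y * p.1, y * p.2)
      refine Prod.ext ?_ ?_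
      · show p.2 + (p.2 - y * p.1) = y * p.1
        linear_combination htwo p.2 - htwo (y * p.1)
      · show p.1 + y * p.2 + p.1 = y * p.2
        linear_combination htwo p.1
    rw [e, LinearMap.charpoly_prodMap]
    have hcp : (LinearMap.mulLeft K y).charpoly = h := by
      rw [← LinearMap.charpoly_toMatrix _ (AdjoinRoot.powerBasis' hm).basis]
      show (Algebra.leftMulMatrix (AdjoinRoot.powerBasis' hm).basis y).charpoly = h
      rw [show y = (AdjoinRoot.powerBasis' hm).gen from (AdjoinRoot.powerBasis'_gen hm).symm,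
        charpoly_leftMulMatrix, AdjoinRoot.powerBasis'_gen, AdjoinRoot.minpoly_root hm.ne_zero, hm.leadingCoeff,
        inv_one, C_1, mul_one]
    rw [hcp]
  · have hcard : Fintype.card (AdjoinRoot h) = Fintype.card K ^ h.natDegree := by
      rw [Module.card_eq_pow_finrank (K := K) (V := AdjoinRoot h),
        (AdjoinRoot.powerBasis' hm).finrank, AdjoinRoot.powerBasis'_dim]
    obtain rfl : hF = instFintypeProd _ _ := Subsingleton.elim _ _
    rw [gauss, Fintype.sum_prod_type]
    have h1 : ∀ u : AdjoinRoot h, ∑ w, chi (Q (u, w)) =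
        if u = r then chi (φ (r * r)) * (Fintype.card (AdjoinRoot h) : ℤ) else 0 := by
      intro u
      have e1 : ∀ w, chi (Q (u, w)) = chi (φ (u * r)) * chi ((φ.comp (LinearMap.mulLeft K (u + r))) w) := by
        intro w
        rw [hQ, chi_add h2, chi_add h2, chi_sq h2, chi_sq h2, LinearMap.comp_apply, LinearMap.mulLeft_apply,
          show (u + r) * w = u * w + w * r by ring, map_add, chi_add h2]
        ring
      rw [Finset.sum_congr rfl fun w _ => e1 w, ← Finset.mul_sum, chi_sum_functional h2]
      have hiff : φ.comp (LinearMap.mulLeft K (u + r)) = 0 ↔ u = r := by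
        constructor
        · intro hh
          have := topF_nondeg hm (a := u + r) fun b => by
            rw [mul_comm]
            exact LinearMap.congr_fun hh b
          linear_combination this - htwo r
        · rintro rfl
          simp [htwo]
      by_cases hu : u = r
      · rw [if_pos (hiff.mpr hu), if_pos hu, hu]
      · rw [if_neg (mt hiff.mp hu), if_neg hu, mul_zero]
    rw [Finset.sum_congr rfl fun u _ => h1 u, Finset.sum_ite_eq', if_pos (Finset.mem_univ _), hrr h0, hcard]
    push_cast
    ring

end CfsgLib.IsometryTwoQ
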