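import Cfsg.Agent.Lib.IsometryTwo.Frames
import Cfsg.Agent.Lib.IsometryTwoQ.Gauss

/-!
Pieces of an isometry of a quadratic form in characteristic two.
-/

set_option autoImplicit false
set_option linter.unusedSectionVars false

namespace CfsgLib.IsometryTwoQ

open Polynomial CfsgLib.IsometryClasses CfsgLib.IsometryTwo

universe u v w

variable {K : Type u} [Field K] [Fintype K] {V : Type v} [AddCommGroup V] [Module K V]

/-- An isometry of finite order of a quadratic form in characteristic two. -/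
structure CtxQ (Q : V → K) (B : V →ₗ[K] V →ₗ[K] K) (x : Module.End K V) (N : ℕ) : Prop
    extends Ctx2 B x N where
  qadd : ∀ a b, Q (a + b) = Q a + Q b + B a b
  qsmul : ∀ (c : K) a, Q (c • a) = c * c * Q a
  qinv : ∀ a, Q (x a) = Q a

variable {Q : V → K} {B : V →ₗ[K] V →ₗ[K] K} {x : Module.End K V} {N : ℕ} {e : ℕ}

theorem CtxQ.q_uu (h : CtxQ Q B x N) (w : V) : Q (act x (uu K) w) = gram B x w w (uu K) := by
  have e1 : act x (uu K) w = x w + (-1 : K) • w := by simp [act, sub_eq_add_neg]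
  rw [gram_apply, e1, h.qadd, h.qsmul, h.qinv, map_add, map_smul, map_smul, h.alt, smul_zero, add_zero,
    h.symm (x w) w, smul_eq_mul]
  linear_combination (Q w - B w (x w)) * h.two

theorem CtxQ.q_uu_mul (h : CtxQ Q B x N) (r : K[X]) (v : V) :
    Q (act x (uu K * r) v) = gram B x v v (rev N r * (uu K * r)) := by
  rw [act_mul, h.q_uu, h.gram_act_left, gram_act_right, mul_assoc]

/-- A cyclic piece at one, with the quadratic form. -/
structure IsVQ (Q : V → K) (B : V →ₗ[K] V →ₗ[K] K) (x : Module.End K V) (e : ℕ) (s : Bool) (v : V) : Prop where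
  base : IsV B x e (s && decide (4 ≤ e)) v
  q2 : e = 2 → Q v = tv K s

/-- A pair piece at one, with the quadratic form. -/
structure IsWQ (Q : V → K) (B : V →ₗ[K] V →ₗ[K] K) (x : Module.End K V) (e : ℕ) (s : Bool) (z w : V) : Prop where
  base : IsW B x e (s && decide (3 ≤ e)) z w
  qz1 : e = 1 → Q z = if s then 1 else 0
  qw1 : e = 1 → Q w = tv K s
  hsQ : s = true → Odd e

variable {V' : Type w} [AddCommGroup V'] [Module K V'] {Q' : V' → K} {B' : V' →ₗ[K] V' →ₗ[K] K}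
  {y : Module.End K V'}

/-- A partial isometry respecting the quadratic forms. -/
structure IsoQ (Q : V → K) (B : V →ₗ[K] V →ₗ[K] K) (x : Module.End K V) (Q' : V' → K)
    (B' : V' →ₗ[K] V' →ₗ[K] K) (y : Module.End K V') (U : Submodule K V) (U' : Submodule K V') (T : V →ₗ[K] V') :
    Prop extends Iso B x B' y U U' T where
  quad : ∀ u ∈ U, Q' (T u) = Q u

theorem quad_of_gen (h : CtxQ Q B x N) (h' : CtxQ Q' B' y N) {U : Submodule K V} {U' : Submodule K V'}
    {T : V →ₗ[K] V'} (hT : Iso B x B' y U U' T) (hU : Inv x U) {v : V} (hv : v ∈ U) (hq : Q' (T v) = Q v)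
    {a : V} (ha : a ∈ LinearMap.range (orb x v)) : Q' (T a) = Q a := by
  obtain ⟨r, rfl⟩ := ha
  rw [orb_apply]
  induction r using Polynomial.induction_on' with
  | add a b ha hb =>
    rw [act_add, map_add, h'.qadd, h.qadd, ha, hb, hT.pres _ (hU.act_mem a hv) _ (hU.act_mem b hv)]
  | monomial i c =>
    have key : ∀ i, (x ^ i) v ∈ U ∧ Q' (T ((x ^ i) v)) = Q ((x ^ i) v) := by
      intro i
      induction i with
      | zero => exact ⟨hv, hq⟩
      | succ i ih =>
        rw [pow_succ', Module.End.mul_apply]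
        exact ⟨hU _ ih.1, by rw [hT.comm _ ih.1, h'.qinv, ih.2, h.qinv]⟩
    simp only [act, aeval_monomial, Module.End.mul_apply, Module.algebraMap_end_apply, map_smul]
    rw [h'.qsmul, h.qsmul, (key i).2]

theorem exists_map_key {M : Type u} [AddCommGroup M] [Module K M] (Φ : M →ₗ[K] V) (Φ' : M →ₗ[K] V') (S : M → M)
    (hS : ∀ a, Φ (S a) = x (Φ a)) (hS' : ∀ a, Φ' (S a) = y (Φ' a))
    (hG : ∀ a b, B' (Φ' a) (Φ' b) = B (Φ a) (Φ b)) (hnd : Nd B' (LinearMap.range Φ')) {U' : Submodule K V'}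
    (hU : LinearMap.range Φ' ≤ U') :
    ∃ T, Iso B x B' y (LinearMap.range Φ) U' T ∧ ∀ a, T (Φ a) = Φ' a := by
  have hker : LinearMap.ker Φ ≤ LinearMap.ker Φ' := fun a ha => by
    refine hnd _ ⟨a, rfl⟩ ?_
    rintro - ⟨b, rfl⟩
    rw [hG, LinearMap.mem_ker.mp ha, map_zero]
  let T₀ : LinearMap.range Φ →ₗ[K] V' :=
    ((LinearMap.ker Φ).liftQ Φ' hker).comp Φ.quotKerEquivRange.symm.toLinearMap
  obtain ⟨T, hT⟩ := LinearMap.exists_extend T₀
  have key : ∀ a, T (Φ a) = Φ' a := fun a => by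
    have h1 := LinearMap.congr_fun hT ⟨Φ a, a, rfl⟩
    rw [LinearMap.comp_apply, Submodule.subtype_apply] at h1
    rw [h1]
    show (LinearMap.ker Φ).liftQ Φ' hker (Φ.quotKerEquivRange.symm ⟨Φ a, LinearMap.mem_range_self Φ a⟩) = Φ' a
    rw [LinearMap.quotKerEquivRange_symm_apply_image, Submodule.mkQ_apply, Submodule.liftQ_apply]
  refine ⟨T, ⟨?_, ?_, ?_⟩, key⟩
  · rintro - ⟨a, rfl⟩
    rw [key]
    exact hU ⟨a, rfl⟩
  · rintro - ⟨a, rfl⟩
    rw [← hS, key, hS', key]
  · rintro - ⟨a, rfl⟩ - ⟨b, rfl⟩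
    rw [key, key, hG]

theorem isoQ_cyclic (h : CtxQ Q B x N) (h' : CtxQ Q' B' y N) {v : V} {v' : V'}
    (hg : ∀ r, gram B' y v' v' r = gram B x v v r) (hq : Q' v' = Q v)
    (hnd : Nd B' (LinearMap.range (orb y v'))) {U' : Submodule K V'} (hv : v' ∈ U') (hU : Inv y U') :
    ∃ T, IsoQ Q B x Q' B' y (LinearMap.range (orb x v)) U' T := by
  obtain ⟨T, hT, key⟩ := exists_map_key (B := B) (x := x) (B' := B') (y := y) (orb x v) (orb y v') (fun a => X * a)
    (orb_X v) (orb_X v')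
    (fun a b => by rw [orb_apply, orb_apply, orb_apply, orb_apply, h.gram_act, h'.gram_act, hg]) hnd (U' := U')
    (by rintro - ⟨a, rfl⟩; exact hU.act_mem a hv)
  have h1 : T v = v' := by
    have := key 1
    simpa [orb_apply, act] using this
  exact ⟨T, hT, fun a ha => quad_of_gen h h' hT (inv_range_orb v) (mem_orb v) (by rw [h1, hq]) ha⟩

theorem isoQ_pair (h : CtxQ Q B x N) (h' : CtxQ Q' B' y N) {z w : V} {z' w' : V'}
    (hzz : ∀ r, gram B' y z' z' r = gram B x z z r) (hww : ∀ r, gram B' y w' w' r = gram B x w w r)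
    (hwz : ∀ r, gram B' y w' z' r = gram B x w z r) (hqz : Q' z' = Q z) (hqw : Q' w' = Q w)
    (hnd : Nd B' (LinearMap.range (orb y z') ⊔ LinearMap.range (orb y w'))) {U' : Submodule K V'}
    (hz : z' ∈ U') (hw : w' ∈ U') (hU : Inv y U') :
    ∃ T, IsoQ Q B x Q' B' y (LinearMap.range (orb x z) ⊔ LinearMap.range (orb x w)) U' T := by
  obtain ⟨T, hT, key⟩ := exists_map_key (M := K[X] × K[X]) (x := x) (B := B) (y := y) (B' := B')
    ((orb x z).coprod (orb x w)) ((orb y z').coprod (orb y w'))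
    (fun a => (X * a.1, X * a.2))
    (fun a => by simp only [LinearMap.coprod_apply, orb_X, map_add])
    (fun a => by simp only [LinearMap.coprod_apply, orb_X, map_add])
    (fun a b => by
      simp only [LinearMap.coprod_apply, map_add, LinearMap.add_apply, orb_apply]
      rw [h.gram_act a.1 b.2, h'.gram_act a.1 b.2, h.gram_swap z w, h'.gram_swap z' w']
      simp only [h.gram_act, h'.gram_act, hzz, hww, hwz])
    (by rw [LinearMap.range_coprod]; exact hnd)
    (U' := U') (by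
      rw [LinearMap.range_coprod]
      refine sup_le ?_ ?_ <;> rintro - ⟨a, rfl⟩
      exacts [hU.act_mem a hz, hU.act_mem a hw])
  rw [LinearMap.range_coprod] at hT
  have h1 : T z = z' := by
    have := key (1, 0)
    simpa [LinearMap.coprod_apply, orb_apply, act] using this
  have h2 : T w = w' := by
    have := key (0, 1)
    simpa [LinearMap.coprod_apply, orb_apply, act] using this
  refine ⟨T, hT, fun a ha => ?_⟩
  obtain ⟨b, hb, c, hc, rfl⟩ := Submodule.mem_sup.mp ha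
  rw [map_add, h'.qadd, h.qadd, hT.pres b (Submodule.mem_sup_left hb) c (Submodule.mem_sup_right hc),
    quad_of_gen h h' hT (inv_pair z w) (Submodule.mem_sup_left (mem_orb z)) (by rw [h1, hqz]) hb,
    quad_of_gen h h' hT (inv_pair z w) (Submodule.mem_sup_right (mem_orb w)) (by rw [h2, hqw]) hc]

/-- The value of the form at a pair member can be adjusted. -/
theorem shiftQ (h : CtxQ Q B x N) {z w : V} (hp : Pair B x e z w) (he : 2 ≤ e) (μ : K) :
    Pair B x e (z + act x (C μ * (uu K) ^ (e - 1)) w) w ∧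
    (∀ r, gram B x (z + act x (C μ * (uu K) ^ (e - 1)) w) (z + act x (C μ * (uu K) ^ (e - 1)) w) r =
      gram B x z z r) ∧
    (∀ r, gram B x w (z + act x (C μ * (uu K) ^ (e - 1)) w) r = gram B x w z r) ∧
    Q (z + act x (C μ * (uu K) ^ (e - 1)) w) = Q z + μ := by
  set u := uu K with hu
  set t := C μ * u ^ (e - 1) with ht
  have hf := dvd_of_kill h.toCtx2 hp
  have hw0 : ∀ {r}, u ^ (e - 1) ∣ r → gram B x w w r = 0 :=
    zero_of_step hp.he (gram_kill h.toCtx2 hp.kill_w w) hp.qw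
  have hts : u ^ (e - 1) ∣ t := dvd_mul_left _ _
  have hrts : u ^ (e - 1) ∣ rev N t := dvd_rev_uu h.pos (by omega) hf hts
  have g1 : ∀ r, gram B x (z + act x t w) (z + act x t w) r = gram B x z z r := fun r => by
    rw [Pair.gz_add h.toCtx2, gram_kill h.toCtx2 hp.kill_z w _ ?_, hw0 ?_, add_zero, add_zero]
    · exact dvd_mul_of_dvd_left (dvd_mul_of_dvd_left hrts _) _
    · rw [show e = 1 + (e - 1) by omega, pow_add]
      refine mul_dvd_mul ?_ hrts
      have := tr_dvd h.pos h.two (show 0 + 1 ≤ e by omega) hf (r := r) (by rw [pow_zero]; exact one_dvd _)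
      simpa using this
  have g2 : ∀ r, gram B x w (z + act x t w) r = gram B x w z r := fun r => by
    rw [gram_add_right, gram_act_right, hw0 (dvd_mul_of_dvd_right hts _), add_zero]
  refine ⟨⟨hp.he, ?_, hp.kill_w, ?_, ?_, hp.qw⟩, g1, g2, ?_⟩
  · rw [act, map_add, ← act, hp.kill_z, zero_add, ← act, act_mul_comm, hp.kill_w, act, map_zero]
  · rw [g2, hp.m]
  · rw [g1, hp.qz]
  · have hB : B z (act x t w) = μ := by
      rw [← gram_apply, ht, apply_C_mul, hp.m' h.toCtx2, mul_one]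
    rw [h.qadd, hB, show t = u * (C μ * u ^ (e - 2)) by
      rw [ht, show e - 1 = e - 2 + 1 by omega, pow_succ]; ring, h.q_uu_mul, hw0 ?_, add_zero]
    refine (pow_dvd_pow u (show e - 1 ≤ (e - 2) + (1 + (e - 2)) by omega)).trans ?_
    rw [pow_add, pow_add, pow_one]
    exact mul_dvd_mul (dvd_rev_uu h.pos (by omega) hf (dvd_mul_left _ _)) (mul_dvd_mul_left _ (dvd_mul_left _ _))

theorem IsWQ.exists_iso {s : Bool} {z w : V} {z' w' : V'} (hv : IsWQ Q B x e s z w)
    (hv' : IsWQ Q' B' y e s z' w') (h : CtxQ Q B x N) (h' : CtxQ Q' B' y N) :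
    ∃ T, IsoQ Q B x Q' B' y (LinearMap.range (orb x z) ⊔ LinearMap.range (orb x w))
      (LinearMap.range (orb y z') ⊔ LinearMap.range (orb y w')) T := by
  have b := hv.base.toPair
  have b' := hv'.base.toPair
  by_cases he : 2 ≤ e
  · obtain ⟨z₁, hz₁, w₁, hw₁, hp₁, ga, gb, gc⟩ := b'.exists_match h'.toCtx2 (inv_pair z' w')
      (Submodule.mem_sup_left (mem_orb z')) (Submodule.mem_sup_right (mem_orb w'))
      (h.toCtx2.gram_alt b.kill_z) (h.toCtx2.gram_alt b.kill_w) (gram_kill h.toCtx2 b.kill_z w) b.qz b.qw b.m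
      (fun h2 => (hv'.base.fz h2).trans (hv.base.fz h2).symm) (fun h2 => (hv'.base.fw h2).trans (hv.base.fw h2).symm)
    obtain ⟨p2, a2, c2, q2⟩ := shiftQ h' hp₁ he (Q z + Q' z₁)
    obtain ⟨p3, a3, c3, q3⟩ := shiftQ h' (p2.swap h'.toCtx2) he (Q w + Q' w₁)
    refine isoQ_pair h h' (fun r => by rw [a2, ga]) (fun r => by rw [a3, gb]) (fun r => ?_) ?_ ?_
      ((p3.swap h'.toCtx2).nd h'.toCtx2) (add_mem hz₁ ((inv_pair z' w').act_mem _ hw₁))
      (add_mem hw₁ ((inv_pair z' w').act_mem _ (add_mem hz₁ ((inv_pair z' w').act_mem _ hw₁)))) (inv_pair z' w')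
    · rw [h'.gram_swap, c3, ← h'.gram_swap, c2, gc]
    · rw [q2]; linear_combination Q' z₁ * h.two
    · rw [q3]; linear_combination Q' w₁ * h.two
  · have he1 : e = 1 := by have := b.he; omega
    subst he1
    have ag : ∀ {L L' : K[X] →ₗ[K] K}, (∀ r, uu K ^ 1 ∣ r → L r = 0) → (∀ r, uu K ^ 1 ∣ r → L' r = 0) →
        L ((uu K) ^ (1 - 1)) = L' ((uu K) ^ (1 - 1)) → ∀ r, L r = L' r := fun {L L'} k k' hh r =>
      agree_step (fun r hr => by rw [k r hr, k' r hr]) hh r (by simp)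
    exact isoQ_pair h h'
      (ag (gram_kill h'.toCtx2 b'.kill_z z') (gram_kill h.toCtx2 b.kill_z z) (b'.qz.trans b.qz.symm))
      (ag (gram_kill h'.toCtx2 b'.kill_w w') (gram_kill h.toCtx2 b.kill_w w) (b'.qw.trans b.qw.symm))
      (ag (gram_kill h'.toCtx2 b'.kill_z w') (gram_kill h.toCtx2 b.kill_z w) (b'.m.trans b.m.symm))
      ((hv'.qz1 rfl).trans (hv.qz1 rfl).symm) ((hv'.qw1 rfl).trans (hv.qw1 rfl).symm)
      (b'.nd h'.toCtx2) (Submodule.mem_sup_left (mem_orb z')) (Submodule.mem_sup_right (mem_orb w'))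
      (inv_pair z' w')

theorem IsVQ.exists_iso {s : Bool} {v : V} {v' : V'} (hv : IsVQ Q B x e s v) (hv' : IsVQ Q' B' y e s v')
    (h : CtxQ Q B x N) (h' : CtxQ Q' B' y N) :
    ∃ T, IsoQ Q B x Q' B' y (LinearMap.range (orb x v)) (LinearMap.range (orb y v')) T := by
  have hf := (hv.base.zero_iff _).mp (h.toCtx2.kill v)
  have hA := h.toCtx2.gram_alt hv.base.kill
  have hA' := h'.toCtx2.gram_alt hv'.base.kill
  obtain ⟨k, hk⟩ := hv.base.ev
  have he2 := hv.base.he
  by_cases he : 4 ≤ e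
  · obtain ⟨c, hc⟩ := exists_congr_cyc h.pos h.two hf hA' hA hv.base.ev he2 hv'.base.q hv.base.q
      (fun h4 => by rw [hv'.base.f h4, hv.base.f h4])
    set v₁ := act y c v' with hv1
    have hg1 : ∀ r, gram B' y v₁ v₁ r = gram B x v v r := fun r => by
      rw [hc, hv1, h'.gram_act_left, gram_act_right]
      congr 1
      ring
    have hk1 : act y ((uu K) ^ e) v₁ = 0 := by rw [hv1, act_mul_comm, hv'.base.kill, act, map_zero]
    set μ := Q v + Q' v₁ with hμ
    set t := C μ * (uu K) ^ (e - 1) with ht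
    set v₂ := act y (1 + t) v₁ with hv2
    have hg : ∀ r, gram B' y v₂ v₂ r = gram B x v v r := fun r => by
      rw [hv2, h'.gram_act_left, gram_act_right, hg1]
      refine hA.eq_of_dvd ?_
      have hts : (uu K) ^ (e - 1) ∣ t := dvd_mul_left _ _
      have h1 : (uu K) ^ e ∣ rev N t + t := by
        have := tr_dvd h.pos h.two (show e - 1 + 1 ≤ e by omega) hf hts
        rwa [show e - 1 + 1 = e by omega] at this
      have h3 : (uu K) ^ e ∣ rev N t * t := (pow_dvd_pow _ (show e ≤ (e - 1) + (e - 1) by omega)).trans (by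
        rw [pow_add]; exact mul_dvd_mul (dvd_rev_uu h.pos (by omega) hf hts) hts)
      rw [show rev N (1 + t) * r * (1 + t) - r = r * (rev N t + t) + r * (rev N t * t) by
        rw [rev_add, rev_one]; ring]
      exact dvd_add (dvd_mul_of_dvd_right h1 _) (dvd_mul_of_dvd_right h3 _)
    refine isoQ_cyclic h h' hg ?_ (top_nd h'.toCtx2 uu_irr
      (by rw [hv2, act_mul_comm, hk1, act, map_zero]) ⟨1, by rw [one_mul, hg, hv.base.q]; exact one_ne_zero⟩)
      ((inv_range_orb v').act_mem _ ((inv_range_orb v').act_mem _ (mem_orb v'))) (inv_range_orb v')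
    have hB : B' v₁ (act y t v₁) = μ := by
      rw [← gram_apply, hg1, ht, apply_C_mul, hv.base.q, mul_one]
    rw [hv2, act_add, show act y (1 : K[X]) v₁ = v₁ by simp [act], h'.qadd, hB,
      show t = uu K * (C μ * (uu K) ^ (e - 2)) by
        rw [ht, show e - 1 = e - 2 + 1 by omega, pow_succ]; ring, h'.q_uu_mul, hg1, hA.kill _ ?_, add_zero]
    · rw [hμ]
      linear_combination Q' v₁ * h.two
    · refine (pow_dvd_pow _ (show e ≤ (e - 2) + (1 + (e - 2)) by omega)).trans ?_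
      rw [pow_add, pow_add, pow_one]
      exact mul_dvd_mul (dvd_rev_uu h.pos (by omega) hf (dvd_mul_left _ _)) (mul_dvd_mul_left _ (dvd_mul_left _ _))
  · have : e = 2 := by omega
    subst this
    have hall : ∀ r, gram B' y v' v' r = gram B x v v r := fun r =>
      agree_even h.pos h.two hf hA' hA (j := 0) ⟨0, rfl⟩ (by omega)
        (agree_step (agree_top hA'.kill hA.kill) (hv'.base.q.trans hv.base.q.symm)) r (by simp)
    exact isoQ_cyclic h h' hall ((hv'.q2 rfl).trans (hv.q2 rfl).symm)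
      (top_nd h'.toCtx2 uu_irr hv'.base.kill hv'.base.top) (mem_orb v') (inv_range_orb v')

/-- On a module prime to one the form is determined by the bilinear form. -/
theorem quad_of_prime (h : CtxQ Q B x N) (h' : CtxQ Q' B' y N) {U : Submodule K V} {U' : Submodule K V'}
    {T : V →ₗ[K] V'} (hT : Iso B x B' y U U' T) (hU : Inv x U) {p : K[X]} (hp : Irreducible p) (hne : ¬ uu K ∣ p)
    {v : V} (hv : v ∈ U) (hk : act x (p ^ e) v = 0) : Q' (T v) = Q v := by
  obtain ⟨a, b, hab⟩ : IsCoprime (uu K) (p ^ e) :=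
    IsCoprime.pow_right ((Irreducible.coprime_iff_not_dvd uu_irr).mpr hne)
  set w := act x a v with hwdef
  have hw : v = act x (uu K) w := by
    rw [hwdef, ← act_mul]
    conv_lhs => rw [show v = act x (a * uu K + b * p ^ e) v by rw [hab]; simp [act]]
    rw [act_add, act_zero_of_dvd hk (dvd_mul_left _ b), add_zero, mul_comm]
  have hwU : w ∈ U := hU.act_mem a hv
  have e1 : act x (uu K) w = x w + (-1 : K) • w := by simp [act, sub_eq_add_neg]
  rw [hw, h.q_uu, e1, map_add, map_smul, hT.comm w hwU,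
    show y (T w) + (-1 : K) • T w = act y (uu K) (T w) by simp [act, sub_eq_add_neg], h'.q_uu, gram_apply,
    gram_apply, ← hT.pres w hwU _ (hU.act_mem _ hwU)]
  congr 1
  rw [e1, map_add, map_smul, hT.comm w hwU]
  simp [act, sub_eq_add_neg]

theorem not_uu_dvd {p : K[X]} (hm : p.Monic) (hi : Irreducible p) (hne : p ≠ uu K) : ¬ uu K ∣ p :=
  fun hd => hne (eq_of_monic_of_associated hm uu_monic ((uu_irr.associated_of_dvd hi hd).symm))

theorem isC2_isoQ {p : K[X]} {v : V} {v' : V'} (hv : IsC2 B x p e v) (hv' : IsC2 B' y p e v')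
    (h : CtxQ Q B x N) (h' : CtxQ Q' B' y N) :
    ∃ T, IsoQ Q B x Q' B' y (LinearMap.range (orb x v)) (LinearMap.range (orb y v')) T := by
  obtain ⟨T, hT⟩ := hv.exists_iso hv' h.toCtx2 h'.toCtx2
  exact ⟨T, hT, fun a ha => quad_of_gen h h' hT (inv_range_orb v) (mem_orb v)
    (quad_of_prime h h' hT (inv_range_orb v) hv.irr (not_uu_dvd hv.mon hv.irr hv.ne) (mem_orb v) hv.kill) ha⟩

theorem isH2_isoQ {p : K[X]} {v w : V} {v' w' : V'} (hv : IsH2 B x p e v w) (hv' : IsH2 B' y p e v' w')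
    (h : CtxQ Q B x N) (h' : CtxQ Q' B' y N) :
    ∃ T, IsoQ Q B x Q' B' y (LinearMap.range (orb x v) ⊔ LinearMap.range (orb x w))
      (LinearMap.range (orb y v') ⊔ LinearMap.range (orb y w')) T := by
  obtain ⟨T, hT⟩ := hv.exists_iso hv' h.toCtx2 h'.toCtx2
  have hw := hv.swap h.toCtx2
  have n1 : ∀ {p : K[X]}, p.Monic → Irreducible p → p ≠ du p → ¬ uu K ∣ p := fun hm hi hne =>
    not_uu_dvd hm hi fun he => hne (by rw [he, uu_du])
  refine ⟨T, hT, fun a ha => ?_⟩
  obtain ⟨b, hb, c, hc, rfl⟩ := Submodule.mem_sup.mp ha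
  have mv : v ∈ LinearMap.range (orb x v) ⊔ LinearMap.range (orb x w) := Submodule.mem_sup_left (mem_orb v)
  have mw : w ∈ LinearMap.range (orb x v) ⊔ LinearMap.range (orb x w) := Submodule.mem_sup_right (mem_orb w)
  rw [map_add, h'.qadd, h.qadd, hT.pres b (Submodule.mem_sup_left hb) c (Submodule.mem_sup_right hc),
    quad_of_gen h h' hT (inv_pair v w) mv
      (quad_of_prime h h' hT (inv_pair v w) hv.irr (n1 hv.mon hv.irr hv.shape) mv hv.kill_v) hb,
    quad_of_gen h h' hT (inv_pair v w) mw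
      (quad_of_prime h h' hT (inv_pair v w) hw.irr (n1 hw.mon hw.irr hw.shape) mw hw.kill_v) hc]

/-- A piece with its label. -/
def IsPieceQ (Q : V → K) (B : V →ₗ[K] V →ₗ[K] K) (x : Module.End K V) : Tag2 K → Submodule K V → Prop
  | .plain P e, W => (∃ v, IsC2 B x P e v ∧ W = LinearMap.range (orb x v)) ∨
      (∃ p v w, IsH2 B x p e v w ∧ P = p * du p ∧ W = LinearMap.range (orb x v) ⊔ LinearMap.range (orb x w)) ∨
      (∃ z w, IsWQ Q B x e false z w ∧ P = uu K * uu K ∧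
        W = LinearMap.range (orb x z) ⊔ LinearMap.range (orb x w))
  | .cyc e s, W => ∃ v, IsVQ Q B x e s v ∧ W = LinearMap.range (orb x v)
  | .tw e, W => ∃ z w, IsWQ Q B x e true z w ∧ W = LinearMap.range (orb x z) ⊔ LinearMap.range (orb x w)

theorem IsPieceQ.nd {t : Tag2 K} {W : Submodule K V} (hW : IsPieceQ Q B x t W) (h : CtxQ Q B x N) : Nd B W := by
  rcases t with ⟨P, e⟩ | ⟨e, s⟩ | e
  · rcases hW with ⟨v, hv, rfl⟩ | ⟨p, v, w, hv, -, rfl⟩ | ⟨z, w, hv, -, rfl⟩
    exacts [top_nd h.toCtx2 hv.irr hv.kill hv.top, hv.nd h.toCtx2, hv.base.toPair.nd h.toCtx2]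
  · obtain ⟨v, hv, rfl⟩ := hW
    exact top_nd h.toCtx2 uu_irr hv.base.kill hv.base.top
  · obtain ⟨z, w, hv, rfl⟩ := hW
    exact hv.base.toPair.nd h.toCtx2

theorem IsPieceQ.inv {t : Tag2 K} {W : Submodule K V} (hW : IsPieceQ Q B x t W) : Inv x W := by
  rcases t with ⟨P, e⟩ | ⟨e, s⟩ | e
  · rcases hW with ⟨v, hv, rfl⟩ | ⟨p, v, w, hv, -, rfl⟩ | ⟨z, w, hv, -, rfl⟩
    exacts [inv_range_orb v, inv_pair v w, inv_pair z w]
  · obtain ⟨v, hv, rfl⟩ := hW
    exact inv_range_orb v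
  · obtain ⟨z, w, hv, rfl⟩ := hW
    exact inv_pair z w

theorem IsPieceQ.finrank [FiniteDimensional K V] {t : Tag2 K} {W : Submodule K V} (hW : IsPieceQ Q B x t W)
    (h : CtxQ Q B x N) : Module.finrank K W = t.dim := by
  rcases t with ⟨P, e⟩ | ⟨e, s⟩ | e
  · rcases hW with ⟨v, hv, rfl⟩ | ⟨p, v, w, hv, rfl, rfl⟩ | ⟨z, w, hv, rfl, rfl⟩
    · exact hv.finrank
    · exact hv.finrank h.toCtx2
    · rw [hv.base.toPair.finrank h.toCtx2, Tag2.dim, natDegree_mul (X_sub_C_ne_zero 1) (X_sub_C_ne_zero 1),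
        natDegree_X_sub_C, mul_comm 2 e]
  · obtain ⟨v, hv, rfl⟩ := hW
    exact hv.base.finrank
  · obtain ⟨z, w, hv, rfl⟩ := hW
    exact hv.base.toPair.finrank h.toCtx2

theorem IsPieceQ.exists_iso {t : Tag2 K} {W : Submodule K V} {W' : Submodule K V'}
    (hW : IsPieceQ Q B x t W) (hW' : IsPieceQ Q' B' y t W') (h : CtxQ Q B x N) (h' : CtxQ Q' B' y N) :
    ∃ T, IsoQ Q B x Q' B' y W W' T := by
  rcases t with ⟨P, e⟩ | ⟨e, s⟩ | e
  · have irr2 : ∀ a b : K[X], Irreducible a → Irreducible b → ¬ Irreducible (a * b) := fun a b ha hb hab =>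
      (hab.isUnit_or_isUnit rfl).elim ha.not_isUnit hb.not_isUnit
    rcases hW with ⟨v, hv, rfl⟩ | ⟨p, v, w, hv, hP, rfl⟩ | ⟨z, w, hv, hP, rfl⟩ <;>
      rcases hW' with ⟨v', hv', rfl⟩ | ⟨p', v', w', hv', hP', rfl⟩ | ⟨z', w', hv', hP', rfl⟩
    · exact isC2_isoQ hv hv' h h'
    · exact absurd (hP' ▸ hv.irr) (irr2 _ _ hv'.irr (hv'.swap h'.toCtx2).irr)
    · exact absurd (hP' ▸ hv.irr) (irr2 _ _ uu_irr uu_irr)
    · exact absurd (hP ▸ hv'.irr) (irr2 _ _ hv.irr (hv.swap h.toCtx2).irr)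
    · rcases prime_pair2 hv hP hv'.mon hv'.irr hP' h.toCtx2 with rfl | rfl
      · exact isH2_isoQ hv hv' h h'
      · have h3 := hv'.swap h'.toCtx2
        rw [du_du hv.mon hv.p0] at h3
        rw [sup_comm (LinearMap.range (orb y v'))]
        exact isH2_isoQ hv h3 h h'
    · exact absurd (hP.symm.trans hP') (pair_prod_ne ⟨hv.mon, hv.irr⟩ hv.shape)
    · exact absurd (hP ▸ hv'.irr) (irr2 _ _ uu_irr uu_irr)
    · exact absurd (hP'.symm.trans hP) (pair_prod_ne ⟨hv'.mon, hv'.irr⟩ hv'.shape)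
    · exact hv.exists_iso hv' h h'
  · obtain ⟨v, hv, rfl⟩ := hW
    obtain ⟨v', hv', rfl⟩ := hW'
    exact hv.exists_iso hv' h h'
  · obtain ⟨z, w, hv, rfl⟩ := hW
    obtain ⟨z', w', hv', rfl⟩ := hW'
    exact hv.exists_iso hv' h h'

end CfsgLib.IsometryTwoQ
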