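import Cfsg.Agent.Lib.IsometryTwoQ.Frames

/-!
The sign of the signed value count of the pieces at one.
-/

set_option autoImplicit false
set_option linter.unusedSectionVars false

namespace CfsgLib.IsometryTwoQ

open Polynomial CfsgLib.IsometryClasses CfsgLib.IsometryTwo

universe u v w

variable {K : Type u} [Field K] [Fintype K] {V : Type v} [AddCommGroup V] [Module K V] [Finite V]
  {Q : V → K} {B : V →ₗ[K] V →ₗ[K] K} {x : Module.End K V} {N : ℕ} {e : ℕ}

/-- The signed count on a subspace. -/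
noncomputable def gW (Q : V → K) (W : Submodule K V) : ℤ :=
  @gauss K _ _ W (Fintype.ofFinite W) (fun w => Q w)

theorem gW_eq (W : Submodule K V) [i : Fintype W] : gW Q W = gauss (fun w : W => Q w) := by
  rw [gW, Subsingleton.elim (Fintype.ofFinite W) i]

theorem gauss_plane (h2 : (2 : K) = 0) (A C : K) :
    gauss (fun p : K × K => p.1 * p.1 * A + p.2 * p.2 * C + p.1 * p.2) = (Fintype.card K : ℤ) * chi (A * C) := by
  classical
  obtain ⟨c, hc⟩ := exists_sq h2 A
  rw [gauss, Fintype.sum_prod_type, Finset.sum_comm]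
  have h1 : ∀ b : K, ∑ a : K, chi (a * a * A + b * b * C + a * b) =
      if b = c then (Fintype.card K : ℤ) * chi (A * C) else 0 := fun b => by
    have e1 : ∀ a : K, chi (a * a * A + b * b * C + a * b) = chi ((c + b) * a) * chi (b * b * C) := fun a => by
      rw [chi_add h2, chi_add h2, show a * a * A = c * a * (c * a) by linear_combination -(a * a) * hc, chi_sq h2,
        add_mul, chi_add h2, mul_comm a b]
      ring
    rw [Finset.sum_congr rfl fun a _ => e1 a, ← Finset.sum_mul, sum_chi_mul h2]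
    have hiff : c + b = 0 ↔ b = c := ⟨fun hh => by linear_combination hh - c * h2, fun hh => by
      rw [hh]; linear_combination c * h2⟩
    by_cases hb : b = c
    · rw [if_pos (hiff.mpr hb), if_pos hb, hb, show c * c * C = A * C by rw [hc]]
    · rw [if_neg (mt hiff.mp hb), if_neg hb, zero_mul]
  rw [Finset.sum_congr rfl fun b _ => h1 b, Finset.sum_ite_eq', if_pos (Finset.mem_univ _)]

/-- Reduction modulo a totally singular subspace to a plane. -/
theorem gauss_reduce (h : CtxQ Q B x N) {W S : Submodule K V} (hSW : S ≤ W) (hQS : ∀ s ∈ S, Q s = 0)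
    {a b : V} (ma : a ∈ W) (mb : b ∈ W) (oa : ∀ s ∈ S, B a s = 0) (ob : ∀ s ∈ S, B b s = 0) (hab : B a b = 1)
    (hperp : ∀ w ∈ W, (∀ s ∈ S, B w s = 0) → ∃ α β : K, ∃ s ∈ S, w = α • a + β • b + s) :
    ∃ c : ℤ, 0 < c ∧ gW Q W = c * chi (Q a * Q b) := by
  classical
  have h2 := h.two
  haveI := Fintype.ofFinite W
  haveI := Fintype.ofFinite S
  refine ⟨Fintype.card S * Fintype.card K, by
    have : 0 < Fintype.card S := Fintype.card_pos
    have : 0 < Fintype.card K := Fintype.card_pos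
    positivity, ?_⟩
  rw [gW_eq, mul_assoc, ← gauss_plane h2]
  set P : Finset W := Finset.univ.filter fun w => ∀ s ∈ S, B (w : V) s = 0 with hP
  have hG : gauss (fun w : W => Q w) = ∑ w ∈ P, chi (Q (w : V)) := by
    have key : ∀ s : S, gauss (fun w : W => Q w) = ∑ w : W, chi (Q (w : V)) * chi (B (w : V) s) := fun s => by
      rw [gauss, ← Equiv.sum_comp (Equiv.addRight (⟨(s : V), hSW s.2⟩ : W)) fun w : W => chi (Q (w : V))]
      refine Finset.sum_congr rfl fun w _ => ?_
      rw [← chi_add h2, Equiv.coe_addRight, Submodule.coe_add, h.qadd, hQS _ s.2, add_zero]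
    have hsum : (Fintype.card S : ℤ) * gauss (fun w : W => Q w) =
        (Fintype.card S : ℤ) * ∑ w ∈ P, chi (Q (w : V)) := by
      rw [← Finset.card_univ, ← nsmul_eq_mul, ← Finset.sum_const, Finset.sum_congr rfl fun s _ => key s,
        Finset.sum_comm, Finset.mul_sum, hP, Finset.sum_filter]
      refine Finset.sum_congr rfl fun w _ => ?_
      rw [← Finset.mul_sum]
      have hf := chi_sum_functional h2 ((B (w : V)).comp S.subtype)
      simp only [LinearMap.comp_apply, Submodule.subtype_apply] at hf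
      rw [hf]
      by_cases hw : ∀ s ∈ S, B (w : V) s = 0
      · rw [if_pos (LinearMap.ext fun s => hw _ s.2), if_pos hw, Finset.card_univ, mul_comm]
      · rw [if_neg fun h0 => hw fun s hs => LinearMap.congr_fun h0 ⟨s, hs⟩, if_neg hw, mul_zero]
    exact mul_left_cancel₀ (by exact_mod_cast (Fintype.card_pos (α := S)).ne') hsum
  rw [hG]
  have hB : ∀ (p : K × K) (s : S), B (p.1 • a + p.2 • b + (s : V)) b = p.1 ∧
      B (p.1 • a + p.2 • b + (s : V)) a = p.2 := fun p s => by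
    simp [h.alt, hab, h.symm b a, h.symm (s : V), oa _ s.2, ob _ s.2]
  have hQ : ∀ (p : K × K) (s : S), Q (p.1 • a + p.2 • b + (s : V)) =
      p.1 * p.1 * Q a + p.2 * p.2 * Q b + p.1 * p.2 := fun p s => by
    rw [h.qadd, h.qadd, h.qsmul, h.qsmul, hQS _ s.2]
    simp [hab, oa _ s.2, ob _ s.2]
    ring
  calc ∑ w ∈ P, chi (Q (w : V))
      = ∑ t : (K × K) × S, chi (t.1.1 * t.1.1 * Q a + t.1.2 * t.1.2 * Q b + t.1.1 * t.1.2) := by
        refine (Finset.sum_bij' (fun (t : (K × K) × S) _ => (⟨t.1.1 • a + t.1.2 • b + (t.2 : V),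
            add_mem (add_mem (W.smul_mem _ ma) (W.smul_mem _ mb)) (hSW t.2.2)⟩ : W))
          (fun w hw => ((B (w : V) b, B (w : V) a),
            ⟨(w : V) - B (w : V) b • a - B (w : V) a • b, ?_⟩)) ?_ ?_ ?_ ?_ ?_).symm
        · rw [hP, Finset.mem_filter] at hw
          obtain ⟨α, β, s, hs, he⟩ := hperp _ w.2 hw.2
          obtain ⟨e1, e2⟩ := hB (α, β) ⟨s, hs⟩
          rw [he, e1, e2]
          simpa [sub_sub] using hs
        · intro t _
          rw [hP, Finset.mem_filter]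
          refine ⟨Finset.mem_univ _, fun s hs => ?_⟩
          simp [h.symm (t.2 : V) s, oa _ hs, ob _ hs]
          have := h.qadd (t.2 : V) s
          rw [hQS _ (add_mem t.2.2 hs), hQS _ t.2.2, hQS _ hs] at this
          rw [h.symm]
          linear_combination -this
        · intro w _
          exact Finset.mem_univ _
        · intro t _
          obtain ⟨e1, e2⟩ := hB t.1 t.2
          refine Prod.ext (Prod.ext e1 e2) (Subtype.ext ?_)
          show _ - _ - _ = _
          rw [e1, e2]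
          module
        · intro w _
          exact Subtype.ext (by show _ + _ + (_ - _ - _) = _; abel)
        · intro t _
          rw [hQ t.1 t.2]
    _ = _ := by
        rw [gauss, Fintype.sum_prod_type, Finset.mul_sum]
        refine Finset.sum_congr rfl fun p _ => ?_
        simp

theorem dvd_of_rev_mul (h : CtxQ Q B x N) {j i : ℕ} (hji : j + i = e) (hf : (uu K) ^ e ∣ X ^ N - 1) {r : K[X]}
    (hr : (uu K) ^ e ∣ rev N ((uu K) ^ j) * r) : (uu K) ^ i ∣ r := by
  set u := uu K with hu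
  have h1 : u ^ e ∣ rev N (rev N (u ^ j) * r) := dvd_rev_uu h.pos le_rfl hf hr
  rw [rev_mul] at h1
  have h3 : u ^ e ∣ u ^ j * rev N r := by
    have h4 : u ^ e ∣ (rev N (rev N (u ^ j)) - u ^ j) * rev N r :=
      dvd_mul_of_dvd_left (hf.trans (rev_rev h.pos _)) _
    have := dvd_sub h1 h4
    rwa [← sub_mul, sub_sub_cancel] at this
  have h5 : u ^ i ∣ rev N r := by
    rw [← hji, pow_add] at h3
    exact (mul_dvd_mul_iff_left (pow_ne_zero _ uu_irr.ne_zero)).mp h3
  have h6 : u ^ i ∣ rev N (rev N r) := dvd_rev_uu h.pos (by omega) hf h5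
  have := dvd_sub h6 ((pow_dvd_pow u (show i ≤ e by omega)).trans (hf.trans (rev_rev h.pos r)))
  rwa [sub_sub_cancel] at this

theorem exists_two_terms {m : ℕ} {r : K[X]} (hr : (uu K) ^ m ∣ r) :
    ∃ α : K, ∃ t, r = C α * (uu K) ^ m + t * (uu K) ^ (m + 1) := by
  obtain ⟨s, rfl⟩ := hr
  obtain ⟨t, ht⟩ : uu K ∣ s - C (s.eval 1) := X_sub_C_dvd_sub_C_eval
  refine ⟨s.eval 1, t, ?_⟩
  linear_combination (uu K) ^ m * ht

theorem act_C_mul (c : K) (r : K[X]) (v : V) : act x (C c * r) v = c • act x r v := by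
  simp [act, Algebra.smul_def]

/-- The signed count of a cyclic piece. -/
theorem gW_cyc (h : CtxQ Q B x N) {s : Bool} {v : V} {k : ℕ} (hv : IsVQ Q B x (2 * k) s v) :
    ∃ c : ℤ, 0 < c ∧ gW Q (LinearMap.range (orb x v)) = c * chi (Q (act x ((uu K) ^ (k - 1)) v)) := by
  set u := uu K with hu
  have hk : 1 ≤ k := by have := hv.base.he; omega
  have hf : u ^ (2 * k) ∣ X ^ N - 1 := (hv.base.zero_iff _).mp (h.toCtx2.kill v)
  have hL := gram_kill h.toCtx2 hv.base.kill v
  have hr : ∀ {j : ℕ}, j ≤ 2 * k → ∀ {r : K[X]}, u ^ j ∣ r → u ^ j ∣ rev N r := fun {j} hj {r} hr =>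
    dvd_rev_uu h.pos hj hf hr
  have htop : gram B x v v (rev N (u ^ (k - 1)) * u ^ k) = 1 := by
    rw [apply_congr hL (s := u ^ (2 * k - 1)) ?_, hv.base.q]
    rw [show 2 * k - 1 = (k - 1) + k by omega, pow_add _ (k - 1) k, ← sub_mul]
    refine (pow_dvd_pow u (show 2 * k ≤ k + k by omega)).trans ?_
    rw [pow_add]
    refine mul_dvd_mul ?_ dvd_rfl
    have := rev_uu_pow h.pos h.two (j := k - 1) ((pow_dvd_pow _ (show k - 1 + 1 ≤ 2 * k by omega)).trans hf)
    rwa [Nat.sub_add_cancel hk] at this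
  have mW : ∀ r, act x r v ∈ LinearMap.range (orb x v) := fun r => ⟨r, rfl⟩
  have hS : LinearMap.range (orb x (act x (u ^ (k + 1)) v)) ≤ LinearMap.range (orb x v) := by
    rintro - ⟨r, rfl⟩
    rw [orb_apply, ← act_mul]
    exact mW _
  have orth : ∀ r t : K[X], u ^ (k - 1) ∣ r → B (act x r v) (act x t (act x (u ^ (k + 1)) v)) = 0 := fun r t hrr => by
    rw [← act_mul, h.gram_act]
    refine hL _ ?_
    rw [show 2 * k = (k - 1) + (k + 1) by omega, pow_add]
    exact mul_dvd_mul (hr (by omega) hrr) (dvd_mul_left _ _)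
  have hQb : Q (act x (u ^ k) v) = 1 := by
    rw [show u ^ k = uu K * u ^ (k - 1) by rw [← hu, ← pow_succ', Nat.sub_add_cancel hk], h.q_uu_mul,
      show uu K * u ^ (k - 1) = u ^ k by rw [← hu, ← pow_succ', Nat.sub_add_cancel hk], htop]
  obtain ⟨c, hc, e1⟩ : ∃ c : ℤ, 0 < c ∧ gW Q (LinearMap.range (orb x v)) =
      c * chi (Q (act x (u ^ (k - 1)) v) * Q (act x (u ^ k) v)) := by
    refine gauss_reduce h hS (fun z hz => ?_) (mW (u ^ (k - 1))) (mW (u ^ k))
      (fun z hz => by obtain ⟨t, rfl⟩ := hz; exact orth _ t dvd_rfl)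
      (fun z hz => by obtain ⟨t, rfl⟩ := hz; exact orth _ t (pow_dvd_pow _ (by omega)))
      (by rw [h.gram_act, htop]) (fun w hw hperp => ?_)
    · obtain ⟨t, rfl⟩ := hz
      rw [orb_apply, ← act_mul, show t * u ^ (k + 1) = uu K * (t * u ^ k) by rw [← hu, pow_succ]; ring, h.q_uu_mul]
      refine hL _ ((pow_dvd_pow u (show 2 * k ≤ k + (1 + k) by omega)).trans ?_)
      rw [pow_add, pow_add, pow_one]
      exact mul_dvd_mul (hr (by omega) (dvd_mul_left _ _)) (mul_dvd_mul dvd_rfl (dvd_mul_left _ _))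
    · obtain ⟨r, rfl⟩ := hw
      rw [orb_apply] at hperp ⊢
      have h0 : act x (rev N (u ^ (k + 1)) * r) v = 0 := by
        refine top_nd h.toCtx2 uu_irr hv.base.kill hv.base.top _ (mW _) ?_
        rintro - ⟨t, rfl⟩
        rw [orb_apply, act_mul, h.symm, h.adj, h.toCtx2.congr (rev_rev h.pos _), ← act_mul]
        rw [mul_comm, act_mul]
        exact hperp _ ⟨t, by rw [orb_apply, act_mul_comm]⟩
      obtain ⟨α, r', rfl⟩ := exists_two_terms (dvd_of_rev_mul h (show k + 1 + (k - 1) = 2 * k by omega) hf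
        ((hv.base.zero_iff _).mp h0))
      rw [Nat.sub_add_cancel hk]
      obtain ⟨β, t, ht⟩ := exists_two_terms (m := 0) (r := r') (by simp)
      refine ⟨α, β, act x t (act x (u ^ (k + 1)) v), ⟨t, rfl⟩, ?_⟩
      rw [← act_C_mul, ← act_C_mul, ← act_mul, ← act_add, ← act_add]
      congr 1
      rw [ht]
      ring
  exact ⟨c, hc, by rw [e1, hQb, mul_one]⟩

/-- The signed count of a pair piece of odd exponent. -/
theorem gW_pair (h : CtxQ Q B x N) {s : Bool} {z w : V} {m : ℕ} (hv : IsWQ Q B x (2 * m + 1) s z w) :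
    ∃ c : ℤ, 0 < c ∧ gW Q (LinearMap.range (orb x z) ⊔ LinearMap.range (orb x w)) = c * chi (tv K s) := by
  set u := uu K with hu
  have hp := hv.base.toPair
  have hf : u ^ (2 * m + 1) ∣ X ^ N - 1 := dvd_of_kill h.toCtx2 hp
  have hr : ∀ {j : ℕ}, j ≤ 2 * m + 1 → ∀ {r : K[X]}, u ^ j ∣ r → u ^ j ∣ rev N r := fun {j} hj {r} hr =>
    dvd_rev_uu h.pos hj hf hr
  set W := LinearMap.range (orb x z) ⊔ LinearMap.range (orb x w) with hW
  set S := LinearMap.range (orb x (act x (u ^ (m + 1)) z)) ⊔ LinearMap.range (orb x (act x (u ^ (m + 1)) w)) with hS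
  have mz : ∀ r, act x r z ∈ W := fun r => Submodule.mem_sup_left ⟨r, rfl⟩
  have mw : ∀ r, act x r w ∈ W := fun r => Submodule.mem_sup_right ⟨r, rfl⟩
  have hSW : S ≤ W := by
    refine sup_le ?_ ?_ <;> rintro - ⟨r, rfl⟩ <;> rw [orb_apply, ← act_mul]
    exacts [mz _, mw _]
  have orth : ∀ {a b : V}, act x (u ^ (2 * m + 1)) b = 0 → ∀ r t : K[X], u ^ m ∣ r →
      B (act x r a) (act x t (act x (u ^ (m + 1)) b)) = 0 := fun {a b} hb r t hrr => by
    rw [← act_mul, h.gram_act]
    refine gram_kill h.toCtx2 hb a _ ?_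
    rw [show 2 * m + 1 = m + (m + 1) by omega, pow_add]
    exact mul_dvd_mul (hr (by omega) hrr) (dvd_mul_left _ _)
  have qS : ∀ {a : V}, act x (u ^ (2 * m + 1)) a = 0 → ∀ t, Q (act x t (act x (u ^ (m + 1)) a)) = 0 := by
    intro a ha t
    rw [← act_mul, show t * u ^ (m + 1) = uu K * (t * u ^ m) by rw [← hu, pow_succ]; ring, h.q_uu_mul]
    refine gram_kill h.toCtx2 ha a _ ?_
    rw [show 2 * m + 1 = m + (1 + m) by omega, pow_add, pow_add, pow_one]
    exact mul_dvd_mul (hr (by omega) (dvd_mul_left _ _)) (mul_dvd_mul dvd_rfl (dvd_mul_left _ _))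
  have hQ : ∀ {a : V}, act x (u ^ (2 * m + 1)) a = 0 → gram B x a a (u ^ (2 * m)) = 0 → 1 ≤ m →
      Q (act x (u ^ m) a) = gram B x a a (u ^ (2 * m + 1 - 2)) := by
    intro a ha hq hm
    rw [show u ^ m = uu K * u ^ (m - 1) by rw [← hu, ← pow_succ', Nat.sub_add_cancel hm], h.q_uu_mul]
    refine apply_congr (j := 2 * m) (fun r hr => zero_of_step (e := 2 * m + 1) (by omega) (gram_kill h.toCtx2 ha a)
      (by simpa using hq) (by simpa using hr)) ?_
    have h1 := rev_uu_pow h.pos h.two (j := m - 1) ((pow_dvd_pow _ (show m - 1 + 1 ≤ 2 * m + 1 by omega)).trans hf)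
    rw [← hu, Nat.sub_add_cancel hm] at h1
    rw [show 2 * m + 1 - 2 = (m - 1) + m by omega, pow_add _ (m - 1) m,
      show u * u ^ (m - 1) = u ^ m by rw [← pow_succ', Nat.sub_add_cancel hm], ← sub_mul,
      show 2 * m = m + m by omega, pow_add]
    exact mul_dvd_mul h1 dvd_rfl
  have hqa : Q (act x (u ^ m) z) = (if s then 1 else 0) ∧ Q (act x (u ^ m) w) = tv K s := by
    rcases Nat.eq_zero_or_pos m with hm | hm
    · subst hm
      rw [pow_zero, show act x (1 : K[X]) z = z by simp [act], show act x (1 : K[X]) w = w by simp [act]]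
      exact ⟨hv.qz1 rfl, hv.qw1 rfl⟩
    · have hb := hv.isW (by omega)
      rw [hQ hp.kill_z (by simpa using hp.qz) hm, hQ hp.kill_w (by simpa using hp.qw) hm]
      exact ⟨hb.fz (by omega), hb.fw (by omega)⟩
  have htop : B (act x (u ^ m) z) (act x (u ^ m) w) = 1 := by
    rw [h.gram_act, apply_congr (gram_kill h.toCtx2 hp.kill_w z) (s := u ^ (2 * m)) ?_]
    · simpa using hp.m' h.toCtx2
    · rw [show 2 * m = m + m by omega, pow_add _ m m, ← sub_mul, show m + m + 1 = (m + 1) + m by omega, pow_add]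
      exact mul_dvd_mul (rev_uu_pow h.pos h.two ((pow_dvd_pow _ (by omega)).trans hf)) dvd_rfl
  obtain ⟨c, hc, e1⟩ : ∃ c : ℤ, 0 < c ∧ gW Q W =
      c * chi (Q (act x (u ^ m) z) * Q (act x (u ^ m) w)) := by
    refine gauss_reduce h hSW (fun y hy => ?_) (mz (u ^ m)) (mw (u ^ m))
      (fun y hy => by
        obtain ⟨-, ⟨t, rfl⟩, -, ⟨t', rfl⟩, rfl⟩ := Submodule.mem_sup.mp hy
        rw [map_add, orb_apply, orb_apply, orth hp.kill_z _ t dvd_rfl, orth hp.kill_w _ t' dvd_rfl, add_zero])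
      (fun y hy => by
        obtain ⟨-, ⟨t, rfl⟩, -, ⟨t', rfl⟩, rfl⟩ := Submodule.mem_sup.mp hy
        rw [map_add, orb_apply, orb_apply, orth hp.kill_z _ t dvd_rfl, orth hp.kill_w _ t' dvd_rfl, add_zero])
      htop (fun y hy hperp => ?_)
    · obtain ⟨-, ⟨t, rfl⟩, -, ⟨t', rfl⟩, rfl⟩ := Submodule.mem_sup.mp hy
      rw [orb_apply, orb_apply, h.qadd, qS hp.kill_z, qS hp.kill_w, ← act_mul x t, orth hp.kill_w _ t' ?_, add_zero,
        add_zero]
      exact dvd_mul_of_dvd_right (pow_dvd_pow _ (by omega)) _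
    · obtain ⟨-, ⟨r, rfl⟩, -, ⟨r', rfl⟩, rfl⟩ := Submodule.mem_sup.mp hy
      rw [orb_apply, orb_apply] at hperp ⊢
      set R := rev N (u ^ (m + 1)) with hR
      have key : ∀ {a : V}, (∀ t, act x t (act x (u ^ (m + 1)) a) ∈ S) →
          ∀ t, B (act x t a) (act x (R * r) z + act x (R * r') w) = 0 := fun {a} ha t => by
        rw [act_mul, act_mul, show act x R (act x r z) + act x R (act x r' w) = act x R (act x r z + act x r' w) by
          simp [act], h.symm, hR, h.adj, h.toCtx2.congr (rev_rev h.pos _), act_mul_comm]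
        exact hperp _ (ha t)
      obtain ⟨d1, d2⟩ := hp.indep h.toCtx2 (a := R * r) (b := R * r') (key fun t => Submodule.mem_sup_left ⟨t, rfl⟩)
        (key fun t => Submodule.mem_sup_right ⟨t, rfl⟩) _ le_rfl
      obtain ⟨α, t, rfl⟩ := exists_two_terms (dvd_of_rev_mul h (show m + 1 + m = 2 * m + 1 by omega) hf d1)
      obtain ⟨β, t', rfl⟩ := exists_two_terms (dvd_of_rev_mul h (show m + 1 + m = 2 * m + 1 by omega) hf d2)
      refine ⟨α, β, act x t (act x (u ^ (m + 1)) z) + act x t' (act x (u ^ (m + 1)) w),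
        Submodule.add_mem_sup ⟨t, rfl⟩ ⟨t', rfl⟩, ?_⟩
      rw [act_add, act_add, act_C_mul, act_C_mul, act_mul, act_mul]
      abel
  refine ⟨c, hc, ?_⟩
  rw [e1, hqa.1, hqa.2]
  cases s <;> simp [tv]

variable {V' : Type w} [AddCommGroup V'] [Module K V'] [Finite V'] {Q' : V' → K}
  {B' : V' →ₗ[K] V' →ₗ[K] K} {y : Module.End K V'}

theorem chi_tv_ne (h2 : (2 : K) = 0) (c c' : ℤ) (hc : 0 < c) (hc' : 0 < c') :
    c * chi (tv K false) ≠ c' * chi (tv K true) := by
  simp only [tv, Bool.false_eq_true, if_false, if_true, chi_zero, chi_tau h2]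
  omega

/-- Twisting a cyclic piece changes its signed count. -/
theorem gW_cyc_ne (h : CtxQ Q B x N) (h' : CtxQ Q' B' y N) {v : V} {v' : V'} (hv : IsVQ Q B x e false v)
    (hv' : IsVQ Q' B' y e true v') : gW Q (LinearMap.range (orb x v)) ≠ gW Q' (LinearMap.range (orb y v')) := by
  obtain ⟨k, hk⟩ := hv.base.ev
  obtain rfl : e = 2 * k := by omega
  obtain ⟨c, hc, e1⟩ := gW_cyc h hv
  obtain ⟨c', hc', e2⟩ := gW_cyc h' hv'
  rw [e1, e2]
  suffices hA : Q' (act y ((uu K) ^ (k - 1)) v') = Q (act x ((uu K) ^ (k - 1)) v) + tau0 K by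
    rw [hA, chi_add h.two, chi_tau h.two]
    rcases chi_cases h.two (Q (act x ((uu K) ^ (k - 1)) v)) with ⟨-, q⟩ | ⟨-, q⟩ <;> rw [q] <;> omega
  have he2 := hv.base.he
  by_cases hk1 : k = 1
  · subst hk1
    rw [Nat.sub_self, pow_zero, show act y (1 : K[X]) v' = v' by simp [act],
      show act x (1 : K[X]) v = v by simp [act], hv.q2 rfl, hv'.q2 rfl]
    simp [tv]
  have h4 : 4 ≤ 2 * k := by omega
  set u := uu K with hu
  have hf : u ^ (2 * k) ∣ X ^ N - 1 := (hv.base.zero_iff _).mp (h.toCtx2.kill v)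
  have hA := h.toCtx2.gram_alt hv.base.kill
  have hA' := h'.toCtx2.gram_alt hv'.base.kill
  have hag : Agree (2 * k - 2) (gram B' y v' v') (gram B x v v) :=
    agree_even h.pos h.two hf hA' hA ⟨k - 1, by omega⟩ (by omega)
      (by
        rw [show 2 * k - 2 + 1 = 2 * k - 1 by omega]
        exact agree_step (by rw [Nat.sub_add_cancel (by omega : 1 ≤ 2 * k)]; exact agree_top hA'.kill hA.kill)
          (hv'.base.q.trans hv.base.q.symm))
  have f1 := (hv.isV h4).f h4
  have f2 := (hv'.isV h4).f h4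
  rw [show u ^ (k - 1) = uu K * u ^ (k - 2) by rw [← hu, ← pow_succ', show k - 2 + 1 = k - 1 by omega],
    h.q_uu_mul, h'.q_uu_mul]
  set n := rev N (u ^ (k - 2)) * (uu K * u ^ (k - 2)) with hn
  have hd : u ^ (2 * k - 2) ∣ n - u ^ (2 * k - 3) := by
    have h1 := rev_uu_pow h.pos h.two (j := k - 2) ((pow_dvd_pow _ (show k - 2 + 1 ≤ 2 * k by omega)).trans hf)
    rw [hn, ← hu, ← pow_succ', show 2 * k - 3 = (k - 2) + (k - 2 + 1) by omega, pow_add u (k - 2) (k - 2 + 1),
      ← sub_mul, show 2 * k - 2 = (k - 2 + 1) + (k - 2 + 1) by omega, pow_add u (k - 2 + 1)]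
    exact mul_dvd_mul h1 dvd_rfl
  have := hag _ hd
  rw [map_sub, map_sub, f1, f2] at this
  simp only [tv, if_true, Bool.false_eq_true, if_false, sub_zero] at this
  linear_combination this

/-- Twisting a pair piece changes its signed count. -/
theorem gW_pair_ne (h : CtxQ Q B x N) (h' : CtxQ Q' B' y N) (ho : Odd e) {z w : V} {z' w' : V'}
    (hv : IsWQ Q B x e false z w) (hv' : IsWQ Q' B' y e true z' w') :
    gW Q (LinearMap.range (orb x z) ⊔ LinearMap.range (orb x w)) ≠
      gW Q' (LinearMap.range (orb y z') ⊔ LinearMap.range (orb y w')) := by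
  obtain ⟨m, rfl⟩ := ho
  obtain ⟨c, hc, e1⟩ := gW_pair h hv
  obtain ⟨c', hc', e2⟩ := gW_pair h' hv'
  rw [e1, e2]
  exact chi_tv_ne h.two c c' hc hc'

end CfsgLib.IsometryTwoQ
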