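import Cfsg.Agent.Lib.IsometryTwoQ.Data

/-!
The involution on the labels exchanging the two signs.
-/

set_option autoImplicit false
set_option linter.unusedSectionVars false

namespace CfsgLib.IsometryTwoQ

open Polynomial CfsgLib.IsometryClasses CfsgLib.IsometryTwo

universe u

variable {K : Type u} [Field K] [Fintype K]

/-- The level of an adjustable label. -/
def AtLev : Tag2 K → ℕ → Prop
  | .plain P e, k => P = uu K * uu K ∧ e + 1 = 2 * k
  | .cyc e _, k => e = 2 * k
  | .tw e, k => e + 1 = 2 * k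

/-- An adjustable label at a level. -/
def Hit (m : Multiset (Tag2 K)) (k : ℕ) : Prop := ∃ t ∈ m, AtLev t k

/-- Possible labels of a decomposition of dimension `2 n`. -/
structure InT (n : ℕ) (m : Multiset (Tag2 K)) : Prop where
  vtag : ∀ t ∈ m, VTagQ t
  canon : Canon2 m
  dim : (m.map Tag2.dim).sum = 2 * n

/-- Two labels differing in sign. -/
def Twin (t t' : Tag2 K) : Prop :=
  (∃ e, Odd e ∧ t = .tw e ∧ t' = .plain (uu K * uu K) e) ∨ ∃ e, t = .cyc e true ∧ t' = .cyc e false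

open Classical in
/-- Exchanging one label at a level. -/
noncomputable def swapAt (k : ℕ) (m : Multiset (Tag2 K)) : Multiset (Tag2 K) :=
  if Tag2.tw (2 * k - 1) ∈ m then .plain (uu K * uu K) (2 * k - 1) ::ₘ m.erase (.tw (2 * k - 1))
  else if Tag2.plain (uu K * uu K) (2 * k - 1) ∈ m then
    .tw (2 * k - 1) ::ₘ m.erase (.plain (uu K * uu K) (2 * k - 1))
  else if Tag2.cyc (2 * k) true ∈ m then .cyc (2 * k) false ::ₘ m.erase (.cyc (2 * k) true)
  else .cyc (2 * k) true ::ₘ m.erase (.cyc (2 * k) false)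

open Classical in
/-- The exchange at the least level. -/
noncomputable def tog (m : Multiset (Tag2 K)) : Multiset (Tag2 K) :=
  if h : ∃ k, Hit m k then swapAt (Nat.find h) m else m

theorem hit_cons_congr {a b : Tag2 K} {r : Multiset (Tag2 K)} (h : ∀ j, AtLev a j ↔ AtLev b j) (j : ℕ) :
    Hit (a ::ₘ r) j ↔ Hit (b ::ₘ r) j := by
  simp only [Hit, Multiset.mem_cons, exists_eq_or_imp, h j]

theorem swap_spec {n : ℕ} {m : Multiset (Tag2 K)} (hm : InT n m) {k : ℕ} (hk : Hit m k)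
    (hmin : ∀ j < k, ¬ Hit m j) :
    ∃ a b r, (Twin a b ∨ Twin b a) ∧ m = a ::ₘ r ∧ swapAt k m = b ::ₘ r ∧ InT n (swapAt k m) ∧
      (∀ j, Hit (swapAt k m) j ↔ Hit m j) ∧ swapAt k (swapAt k m) = m := by
  classical
  have hk1 : 1 ≤ k := by
    obtain ⟨t, ht, hl⟩ := hk
    have hv := hm.vtag t ht
    rcases t with ⟨P, e⟩ | ⟨e, s⟩ | e
    · have := hl.2; omega
    · have h1 : e = 2 * k := hl
      have := hv.2; omega
    · have h1 : e + 1 = 2 * k := hl
      omega
  have hlow : ∀ s, Tag2.cyc (2 * k - 2) s ∉ m := fun s hs => by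
    have h2 : 2 ≤ 2 * k - 2 := (hm.vtag _ hs).2
    exact hmin (k - 1) (by omega) ⟨_, hs, show 2 * k - 2 = 2 * (k - 1) by omega⟩
  have hdim : ∀ {a b : Tag2 K} {r : Multiset (Tag2 K)}, m = a ::ₘ r → a.dim = b.dim →
      ((b ::ₘ r).map Tag2.dim).sum = 2 * n := fun {a b r} e hd => by
    rw [← hm.dim, e, Multiset.map_cons, Multiset.map_cons, Multiset.sum_cons, Multiset.sum_cons, hd]
  have hdeg : (uu K * uu K).natDegree = 2 := by
    rw [natDegree_mul (X_sub_C_ne_zero 1) (X_sub_C_ne_zero 1), natDegree_X_sub_C]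
  have hv : ∀ {b : Tag2 K} {r : Multiset (Tag2 K)} {a : Tag2 K}, m = a ::ₘ r → VTagQ b → ∀ t ∈ b ::ₘ r, VTagQ t :=
    fun {b r a} e hb t ht => by
      rcases Multiset.mem_cons.mp ht with rfl | ht
      exacts [hb, hm.vtag t (e ▸ Multiset.mem_cons_of_mem ht)]
  have hodd : Odd (2 * k - 1) := ⟨k - 1, by omega⟩
  set e := 2 * k - 1 with he
  set P : Tag2 K := .plain (uu K * uu K) e with hP
  by_cases h1 : Tag2.tw e ∈ m
  · set r := m.erase (.tw e) with hr
    have hmr : m = Tag2.tw e ::ₘ r := (Multiset.cons_erase h1).symm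
    have hnot : Tag2.tw e ∉ r := fun hh => by
      have := (hm.canon.tw_count e).1
      rw [hmr, Multiset.count_cons_self] at this
      have := Multiset.count_pos.mpr hh
      omega
    have hs : swapAt k m = P ::ₘ r := by rw [swapAt, ← he, if_pos h1]
    have hcy : ∀ a s, (P ::ₘ r).count (.cyc a s) = m.count (.cyc a s) := fun a s => by
      rw [hmr, Multiset.count_cons_of_ne (by simp [hP]), Multiset.count_cons_of_ne (by simp)]
    have hcm : ∀ {a s}, Tag2.cyc a s ∈ P ::ₘ r → Tag2.cyc a s ∈ m := fun {a s} hh => by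
      rw [← Multiset.count_pos, hcy, Multiset.count_pos] at hh
      exact hh
    have hmem : ∀ {t}, t ∈ P ::ₘ r → t = P ∨ t ∈ m := fun {t} hh =>
      (Multiset.mem_cons.mp hh).imp id fun h => hmr ▸ Multiset.mem_cons_of_mem h
    refine ⟨_, P, r, Or.inl (Or.inl ⟨e, hodd, rfl, rfl⟩), hmr, hs, hs ▸ ⟨hv hmr ⟨hodd.pos, Or.inr rfl⟩,
      ⟨fun a => by rw [hcy, hcy]; exact hm.canon.cyc_count a, fun a ha => ?_, fun a => ⟨?_, fun ha s hh => ?_⟩⟩,
      hdim hmr (by simp only [hP, Tag2.dim, hdeg]; ring)⟩, fun j => ?_, ?_⟩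
    · obtain ⟨c1, c2, c3⟩ := hm.canon.cyc_true a (hcm ha)
      refine ⟨fun s hh => c1 s (hcm hh), fun hh => ?_, fun hh => ?_⟩
      · rcases hmem hh with h' | h'
        · simp only [hP, Tag2.plain.injEq] at h'
          exact c3 (h'.2 ▸ h1)
        · exact c2 h'
      · rcases hmem hh with h' | h'
        exacts [by simp [hP] at h', c3 h']
    · rw [Multiset.count_cons_of_ne (by simp [hP])]
      exact (Multiset.count_le_of_le _ (Multiset.erase_le _ _)).trans (hm.canon.tw_count a).1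
    · rcases hmem ha with h' | h'
      exacts [absurd h' (by simp [hP]), (hm.canon.tw_count a).2 h' s (hcm hh)]
    · rw [hs, hmr]
      refine hit_cons_congr (fun i => ?_) j
      simp [AtLev, hP]
    · rw [hs, swapAt, ← he, if_neg (by simp [hP, hnot]), if_pos (Multiset.mem_cons_self _ _),
        Multiset.erase_cons_head, hmr]
  by_cases h2 : P ∈ m
  · set r := m.erase P with hr
    have hmr : m = P ::ₘ r := (Multiset.cons_erase h2).symm
    have hs : swapAt k m = Tag2.tw e ::ₘ r := by rw [swapAt, ← he, if_neg h1, if_pos (hP ▸ h2)]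
    have hcy : ∀ a s, (Tag2.tw e ::ₘ r).count (.cyc a s) = m.count (.cyc a s) := fun a s => by
      rw [hmr, Multiset.count_cons_of_ne (by simp), Multiset.count_cons_of_ne (by simp [hP])]
    have hcm : ∀ {a s}, Tag2.cyc a s ∈ Tag2.tw e ::ₘ r → Tag2.cyc a s ∈ m := fun {a s} hh => by
      rw [← Multiset.count_pos, hcy, Multiset.count_pos] at hh
      exact hh
    have hmem : ∀ {t}, t ∈ Tag2.tw e ::ₘ r → t = Tag2.tw e ∨ t ∈ m := fun {t} hh =>
      (Multiset.mem_cons.mp hh).imp id fun h => hmr ▸ Multiset.mem_cons_of_mem h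
    refine ⟨P, _, r, Or.inr (Or.inl ⟨e, hodd, rfl, rfl⟩), hmr, hs, hs ▸ ⟨hv hmr hodd,
      ⟨fun a => by rw [hcy, hcy]; exact hm.canon.cyc_count a, fun a ha => ?_, fun a => ⟨?_, fun ha s hh => ?_⟩⟩,
      hdim hmr (by simp only [hP, Tag2.dim, hdeg]; ring)⟩, fun j => ?_, ?_⟩
    · obtain ⟨c1, c2, c3⟩ := hm.canon.cyc_true a (hcm ha)
      refine ⟨fun s hh => c1 s (hcm hh), fun hh => ?_, fun hh => ?_⟩
      · rcases hmem hh with h' | h'
        exacts [by simp at h', c2 h']
      · rcases hmem hh with h' | h'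
        · simp only [Tag2.tw.injEq] at h'
          exact c2 (by rw [h']; exact h2)
        · exact c3 h'
    · by_cases hae : a = e
      · subst hae
        rw [Multiset.count_cons_self, Multiset.count_eq_zero.mpr fun hh => h1 (Multiset.mem_of_mem_erase hh)]
      · rw [Multiset.count_cons_of_ne (by simpa using hae)]
        exact (Multiset.count_le_of_le _ (Multiset.erase_le _ _)).trans (hm.canon.tw_count a).1
    · rcases hmem ha with h' | h'
      · simp only [Tag2.tw.injEq] at h'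
        exact hlow s (by rw [show 2 * k - 2 = a - 1 by omega]; exact hcm hh)
      · exact (hm.canon.tw_count a).2 h' s (hcm hh)
    · rw [hs, hmr]
      refine hit_cons_congr (fun i => ?_) j
      simp [AtLev, hP]
    · rw [hs, swapAt, ← he, if_pos (Multiset.mem_cons_self _ _), Multiset.erase_cons_head, hmr]
  have hb : Tag2.cyc (2 * k) true ∈ m ∨ Tag2.cyc (2 * k) false ∈ m := by
    obtain ⟨t, ht, hl⟩ := hk
    rcases t with ⟨R, j⟩ | ⟨j, s⟩ | j
    · obtain ⟨rfl, hj⟩ := hl
      rw [show j = e by omega] at ht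
      exact absurd ht h2
    · have hj : j = 2 * k := hl
      subst hj
      cases s
      exacts [Or.inr ht, Or.inl ht]
    · have hj : j + 1 = 2 * k := hl
      rw [show j = e by omega] at ht
      exact absurd ht h1
  obtain ⟨s₀, hs₀, hs₁⟩ : ∃ s₀, Tag2.cyc (2 * k) s₀ ∈ m ∧ (s₀ = false → Tag2.cyc (2 * k) true ∉ m) := by
    by_cases hT : Tag2.cyc (2 * k) true ∈ m
    exacts [⟨true, hT, by simp⟩, ⟨false, hb.resolve_left hT, fun _ => hT⟩]
  set a₀ : Tag2 K := .cyc (2 * k) s₀ with ha₀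
  set b₀ : Tag2 K := .cyc (2 * k) (!s₀) with hb₀
  set r := m.erase a₀ with hr
  have hmr : m = a₀ ::ₘ r := (Multiset.cons_erase hs₀).symm
  have hnr : Tag2.cyc (2 * k) true ∉ r := fun hh => by
    cases hs0 : s₀
    · exact hs₁ hs0 (Multiset.mem_of_mem_erase hh)
    · have h1 := (hm.canon.cyc_count (2 * k)).2
      rw [hmr, ha₀, hs0, Multiset.count_cons_self] at h1
      have := Multiset.count_pos.mpr hh
      omega
  have hs : swapAt k m = b₀ ::ₘ r := by
    rw [swapAt, ← he, if_neg h1, if_neg (hP ▸ h2), hb₀, hr, ha₀]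
    cases s₀
    · rw [if_neg (hs₁ rfl)]; rfl
    · rw [if_pos hs₀]; rfl
  have hmem : ∀ {t}, t ∈ b₀ ::ₘ r → t = b₀ ∨ t ∈ m := fun {t} hh =>
    (Multiset.mem_cons.mp hh).imp id fun h => hmr ▸ Multiset.mem_cons_of_mem h
  have hcm : ∀ {a s}, Tag2.cyc a s ∈ b₀ ::ₘ r → ∃ s', Tag2.cyc a s' ∈ m := fun {a s} hh => by
    rcases hmem hh with h' | h'
    · simp only [hb₀, Tag2.cyc.injEq] at h'
      exact ⟨s₀, h'.1 ▸ hs₀⟩
    · exact ⟨s, h'⟩
  refine ⟨a₀, b₀, r, ?_, hmr, hs, hs ▸ ⟨hv hmr ⟨even_two_mul k, by omega⟩,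
    ⟨fun a => ?_, fun a ha => ?_, fun a => ⟨?_, fun ha s hh => ?_⟩⟩, hdim hmr rfl⟩, fun j => ?_, ?_⟩
  · cases s₀
    exacts [Or.inr (Or.inr ⟨2 * k, rfl, rfl⟩), Or.inl (Or.inr ⟨2 * k, rfl, rfl⟩)]
  · obtain ⟨i1, i2⟩ := hm.canon.cyc_count a
    rw [hmr] at i1 i2
    have h0 : r.count (Tag2.cyc (2 * k) true) = 0 := Multiset.count_eq_zero.mpr hnr
    by_cases hak : a = 2 * k
    · subst hak
      cases s₀ <;> simp only [ha₀, hb₀, Bool.not_true, Bool.not_false, Multiset.count_cons_self,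
        ne_eq, Tag2.cyc.injEq, Bool.false_eq_true, Bool.true_eq_false, and_false, not_false_eq_true,
        Multiset.count_cons_of_ne] at i1 i2 ⊢ <;> omega
    · rw [Multiset.count_cons_of_ne (by simp [ha₀, hak]), Multiset.count_cons_of_ne (by simp [ha₀, hak])] at i1
      rw [Multiset.count_cons_of_ne (by simp [ha₀, hak])] at i2
      rw [Multiset.count_cons_of_ne (by simp [hb₀, hak]), Multiset.count_cons_of_ne (by simp [hb₀, hak])]
      exact ⟨i1, i2⟩
  · by_cases hak : a = 2 * k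
    · subst hak
      refine ⟨fun s hh => ?_, fun hh => ?_, fun hh => ?_⟩
      · obtain ⟨s', hs'⟩ := hcm hh
        exact hlow s' hs'
      · rcases hmem hh with h' | h'
        exacts [by simp [hb₀] at h', h2 h']
      · rcases hmem hh with h' | h'
        exacts [by simp [hb₀] at h', h1 h']
    · have ha' : Tag2.cyc a true ∈ m := (hmem ha).resolve_left (by simp [hb₀, hak])
      obtain ⟨c1, c2, c3⟩ := hm.canon.cyc_true a ha'
      refine ⟨fun s hh => ?_, fun hh => ?_, fun hh => ?_⟩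
      · obtain ⟨s', hs'⟩ := hcm hh
        exact c1 s' hs'
      · rcases hmem hh with h' | h'
        exacts [by simp [hb₀] at h', c2 h']
      · rcases hmem hh with h' | h'
        exacts [by simp [hb₀] at h', c3 h']
  · rw [Multiset.count_cons_of_ne (by simp [hb₀])]
    exact (Multiset.count_le_of_le _ (Multiset.erase_le _ _)).trans (hm.canon.tw_count a).1
  · obtain ⟨s', hs'⟩ := hcm hh
    rcases hmem ha with h' | h'
    exacts [absurd h' (by simp [hb₀]), (hm.canon.tw_count a).2 h' s' hs']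
  · rw [hs, hmr]
    refine hit_cons_congr (fun i => ?_) j
    simp [AtLev, ha₀, hb₀]
  · have g1 : Tag2.tw e ∉ b₀ ::ₘ r := fun hh => by
      rcases hmem hh with h' | h'
      exacts [by simp [hb₀] at h', h1 h']
    have g2 : Tag2.plain (uu K * uu K) e ∉ b₀ ::ₘ r := fun hh => by
      rcases hmem hh with h' | h'
      exacts [by simp [hb₀] at h', h2 h']
    rw [hs, swapAt, ← he, if_neg g1, if_neg g2, hb₀]
    conv_rhs => rw [hmr, ha₀]
    cases s₀
    · rw [Bool.not_false, if_pos (Multiset.mem_cons_self _ _), Multiset.erase_cons_head]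
    · rw [Bool.not_true, if_neg (by simpa using hnr), Multiset.erase_cons_head]

theorem tog_spec {n : ℕ} {m : Multiset (Tag2 K)} (hm : InT n m) (h : ∃ k, Hit m k) :
    ∃ a b r, (Twin a b ∨ Twin b a) ∧ m = a ::ₘ r ∧ tog m = b ::ₘ r ∧ InT n (tog m) ∧ tog (tog m) = m := by
  classical
  obtain ⟨a, b, r, h1, h2, h3, h4, h5, h6⟩ :=
    swap_spec hm (Nat.find_spec h) fun j hj => Nat.find_min h hj
  have e : tog m = swapAt (Nat.find h) m := dif_pos h
  have h' : ∃ k, Hit (tog m) k := e ▸ ⟨_, (h5 _).mpr (Nat.find_spec h)⟩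
  have ek : Nat.find h' = Nat.find h := Nat.find_congr' fun {j} => by rw [e]; exact h5 j
  refine ⟨a, b, r, h1, h2, e ▸ h3, e ▸ h4, ?_⟩
  rw [tog, dif_pos h', ek, e, h6]

theorem no_hit {n : ℕ} {m : Multiset (Tag2 K)} (hm : InT n m) (h : ¬ ∃ k, Hit m k) (k : ℕ) :
    bAt m k = 0 ∧ Tag2.tw k ∉ m := by
  constructor
  · exact bAt_zero k fun s hs => h ⟨k, _, hs, rfl⟩
  · intro hh
    obtain ⟨i, hi⟩ := (show Odd k from hm.vtag _ hh)
    exact h ⟨i + 1, _, hh, show k + 1 = 2 * (i + 1) by omega⟩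

end CfsgLib.IsometryTwoQ
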