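import Cfsg.Agent.Lib.IsometryTwoQ.Toggle
import Cfsg.Agent.Lib.IsometryTwoQ.Sign
import Cfsg.Agent.Lib.IsometryTwoQ.Group
import Cfsg.Agent.Lib.IsometryTwo.Symplectic

/-!
The upper bound for the number of classes of orthogonal groups in characteristic two.
-/

set_option autoImplicit false
set_option linter.unusedSectionVars false

namespace CfsgLib.IsometryTwoQ

open Polynomial CfsgLib.IsometryClasses CfsgLib.IsometryTwo QuadraticMap
open CfsgLib.FiniteForms (PolarNondeg)

universe u v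

variable {K : Type u} [Field K] [Fintype K]

variable (K) in
/-- The type of invariants. -/
def DatQ (n : ℕ) : Type u :=
  Σ t : {t : Fin n → Tok // okQ n t = true ∧ wtP n t ≤ n},
    Σ D : {D : Fin n → Fin (n + 1) // ∑ i, (i.val + 1) * (D i).val = n - wtP n t.1}, ∀ i, SD1 K (D.1 i).val

variable (K) in
/-- The invariants without adjustable labels. -/
def Dat0 (n : ℕ) : Type u :=
  Σ D : {D : Fin n → Fin (n + 1) // ∑ i, (i.val + 1) * (D i).val = n}, ∀ i, SD1 K (D.1 i).val

theorem dat0_bound (n : ℕ) :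
    Finite (Dat0 K n) ∧ (Nat.card (Dat0 K n) : ℚ) ≤ 34628 / 10000 * (Fintype.card K : ℚ) ^ n := by
  classical
  haveI : ∀ D, Finite (SD1 K D) := fun D => (SD1.bound D).1
  haveI : Finite (Dat0 K n) := by unfold Dat0; infer_instance
  refine ⟨inferInstance, le_trans ?_ (degSum_le _ Fintype.one_lt_card n n)⟩
  rw [Dat0, Nat.card_sigma, ← Finset.sum_filter]
  push_cast
  rw [Finset.sum_subtype (p := fun D : Fin n → Fin (n + 1) => ∑ i, (i.val + 1) * (D i).val = n)
    (F := inferInstance) _ (fun t => by simp)]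
  refine Finset.sum_le_sum fun D _ => ?_
  rw [← Finset.prod_pow_eq_pow_sum, Nat.card_pi]
  push_cast
  exact Finset.prod_le_prod (fun i _ => by positivity) fun i _ => by exact_mod_cast (SD1.bound _).2

theorem dat_boundQ (n : ℕ) :
    Finite (DatQ K n) ∧ (Nat.card (DatQ K n) : ℚ) ≤ 639 / 25 * (Fintype.card K : ℚ) ^ n := by
  classical
  haveI : ∀ D, Finite (SD1 K D) := fun D => (SD1.bound D).1
  haveI : Finite (DatQ K n) := by unfold DatQ; infer_instance
  refine ⟨inferInstance, le_trans ?_ (total_leQ _ Fintype.one_lt_card n)⟩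
  rw [DatQ, Nat.card_sigma, ← Finset.sum_filter]
  push_cast
  rw [Finset.sum_subtype (p := fun t : Fin n → Tok => okQ n t = true ∧ wtP n t ≤ n)
    (F := inferInstance) _ (fun t => by simp)]
  refine Finset.sum_le_sum fun t _ => ?_
  rw [Nat.card_sigma, ← Finset.sum_filter]
  push_cast
  rw [Finset.sum_subtype (p := fun D : Fin n → Fin (n + 1) => ∑ i, (i.val + 1) * (D i).val = n - wtP n t.1)
    (F := inferInstance) _ (fun t => by simp)]
  refine Finset.sum_le_sum fun D _ => ?_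
  rw [← Finset.prod_pow_eq_pow_sum, Nat.card_pi]
  push_cast
  exact Finset.prod_le_prod (fun i _ => by positivity) fun i _ => by exact_mod_cast (SD1.bound _).2

theorem exists_datQ (h2 : (2 : K) = 0) {n : ℕ} {m : Multiset (Tag2 K)} (hm : InT n m) :
    ∃ d : DatQ K n, (∀ i : Fin n, d.1.1 i = tokAt m (i.val + 1)) ∧
      ∀ i : Fin n, (d.2.2 i).1.1 = gAt m (i.val + 1) := by
  classical
  have hw := weight_eqQ h2 hm.vtag hm.canon hm.dim
  have hok := (okQ_of_forall n (fun j => tokAt m (j + 1)) fun i => tokAt_allowedQ hm.vtag hm.canon i).1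
  have hle : ∀ i : Fin n, (gAt m (i.val + 1)).natDegree / 2 < n + 1 := fun i => by
    have h1 : (i.val + 1) * ((gAt m (i.val + 1)).natDegree / 2) ≤
        ∑ i : Fin n, (i.val + 1) * ((gAt m (i.val + 1)).natDegree / 2) :=
      Finset.single_le_sum (f := fun i : Fin n => (i.val + 1) * ((gAt m (i.val + 1)).natDegree / 2))
        (fun _ _ => Nat.zero_le _) (Finset.mem_univ i)
    have h3 := Nat.le_mul_of_pos_left ((gAt m (i.val + 1)).natDegree / 2) i.val.succ_pos
    simp only [Nat.succ_eq_add_one] at h3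
    omega
  refine ⟨⟨⟨fun i => tokAt m (i.val + 1), hok, by omega⟩,
    ⟨fun i => ⟨(gAt m (i.val + 1)).natDegree / 2, hle i⟩, by
      show ∑ i : Fin n, (i.val + 1) * ((gAt m (i.val + 1)).natDegree / 2) = n - wtP n (fun i => tokAt m (i.val + 1))
      omega⟩,
    fun i => ⟨⟨gAt m (i.val + 1), (gAt_goodQ h2 hm.vtag _).1, ?_, (gAt_goodQ h2 hm.vtag _).2.1, ?_⟩,
      (gAt_goodQ h2 hm.vtag _).2.2.1⟩⟩, fun i => rfl, fun i => rfl⟩
  · obtain ⟨k, hk⟩ := (gAt_goodQ h2 hm.vtag (i.val + 1)).2.2.2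
    show _ = 2 * ((gAt m (i.val + 1)).natDegree / 2)
    omega
  · rw [(gAt_goodQ h2 hm.vtag _).2.2.1]
    exact one_ne_zero

theorem tok_zero {n : ℕ} {m : Multiset (Tag2 K)} (hm : InT n m) (h : ¬ ∃ k, Hit m k) (k : ℕ) :
    tokAt m k = (0, false, false) := by
  classical
  have hb := (no_hit hm h k).1
  have ht := (no_hit hm h (2 * k - 1)).2
  have hV : Tag2.cyc (2 * k) true ∉ m := fun hh => by
    have := Multiset.count_pos.mpr hh
    rw [bAt] at hb
    omega
  simp [tokAt, hb, ht, hV]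

theorem exists_dat0 (h2 : (2 : K) = 0) {n : ℕ} {m : Multiset (Tag2 K)} (hm : InT n m) (h : ¬ ∃ k, Hit m k) :
    ∃ d : Dat0 K n, ∀ i : Fin n, (d.2 i).1.1 = gAt m (i.val + 1) := by
  obtain ⟨⟨⟨t, ht1, ht2⟩, ⟨D, hD⟩, f⟩, e1, e2⟩ := exists_datQ h2 hm
  have hwt : wtP n t = 0 := by
    refine Finset.sum_eq_zero fun i _ => ?_
    rw [show t i = tokAt m (i.val + 1) from e1 i, tok_zero hm h]
    simp [wta]
  exact ⟨⟨⟨D, by rw [hD, hwt, Nat.sub_zero]⟩, f⟩, e2⟩

theorem finite_inT (h2 : (2 : K) = 0) (n : ℕ) :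
    Finite {m : Multiset (Tag2 K) // InT n m} ∧
      (Nat.card {m : Multiset (Tag2 K) // InT n m} : ℚ) ≤ 639 / 25 * (Fintype.card K : ℚ) ^ n := by
  choose Φ h1 h3 using fun m : {m : Multiset (Tag2 K) // InT n m} => exists_datQ h2 m.2
  obtain ⟨hf, hc⟩ := dat_boundQ (K := K) n
  have hinj : Function.Injective Φ := fun m m' h => Subtype.ext (data_injQ h2 m.2.vtag m'.2.vtag m.2.canon m'.2.canon
    (single_dim_le m.2.dim) (single_dim_le m'.2.dim) (fun i => by rw [← h1 m i, ← h1 m' i, h])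
    (fun i => by rw [← h3 m i, ← h3 m' i, h]))
  exact ⟨Finite.of_injective Φ hinj, le_trans (by exact_mod_cast Nat.card_le_card_of_injective Φ hinj) hc⟩

theorem finite_plain (h2 : (2 : K) = 0) (n : ℕ) :
    Finite {m : Multiset (Tag2 K) // InT n m ∧ ¬ ∃ k, Hit m k} ∧
      (Nat.card {m : Multiset (Tag2 K) // InT n m ∧ ¬ ∃ k, Hit m k} : ℚ) ≤
        34628 / 10000 * (Fintype.card K : ℚ) ^ n := by
  choose Φ h3 using fun m : {m : Multiset (Tag2 K) // InT n m ∧ ¬ ∃ k, Hit m k} => exists_dat0 h2 m.2.1 m.2.2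
  obtain ⟨hf, hc⟩ := dat0_bound (K := K) n
  have hinj : Function.Injective Φ := fun m m' h => Subtype.ext (data_injQ h2 m.2.1.vtag m'.2.1.vtag m.2.1.canon
    m'.2.1.canon (single_dim_le m.2.1.dim) (single_dim_le m'.2.1.dim)
    (fun i => by rw [tok_zero m.2.1 m.2.2, tok_zero m'.2.1 m'.2.2]) (fun i => by rw [← h3 m i, ← h3 m' i, h]))
  exact ⟨Finite.of_injective Φ hinj, le_trans (by exact_mod_cast Nat.card_le_card_of_injective Φ hinj) hc⟩

variable {V : Type v} [AddCommGroup V] [Module K V] [Fintype V]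
  {Q : V → K} {B : V →ₗ[K] V →ₗ[K] K} {x y : Module.End K V} {N : ℕ}

theorem gauss_frame (h : CtxQ Q B x N) {t : Tag2 K} {r : Multiset (Tag2 K)} (hF : FrameQ Q B x ⊤ (t ::ₘ r)) :
    ∃ W U, IsPieceQ Q B x t W ∧ FrameQ Q B x U r ∧ gauss Q = gW Q W * gW Q U ∧ gW Q U ≠ 0 := by
  classical
  haveI : FiniteDimensional K V := Module.Finite.of_finite
  obtain ⟨W, U, hW, ho, hsup, hU⟩ := hF.extract h rfl
  refine ⟨W, U, hW, hU, ?_, ?_⟩
  · haveI := Fintype.ofFinite W
    haveI := Fintype.ofFinite U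
    let f : W × U → V := fun p => (p.1 : V) + (p.2 : V)
    have hf : Function.Bijective f := by
      refine ⟨?_, fun v => ?_⟩
      · rintro ⟨a, b⟩ ⟨a', b'⟩ hab
        have h1 : (a : V) - a' = b' - b := by
          have : (a : V) + b = a' + b' := hab
          linear_combination (norm := abel) this
        have h0 : (a : V) - a' ∈ W ⊓ U := ⟨sub_mem a.2 a'.2, h1 ▸ sub_mem b'.2 b.2⟩
        rw [IsometryTwo.inf_eq_bot (hW.nd h) ho, Submodule.mem_bot] at h0
        have h3 : (b' : V) - b = 0 := h1 ▸ h0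
        exact Prod.ext (Subtype.ext (sub_eq_zero.mp h0)) (Subtype.ext (sub_eq_zero.mp h3).symm)
      · have hv : v ∈ W ⊔ U := hsup ▸ Submodule.mem_top
        obtain ⟨a, ha, b, hb, rfl⟩ := Submodule.mem_sup.mp hv
        exact ⟨(⟨a, ha⟩, ⟨b, hb⟩), rfl⟩
    rw [gW_eq, gW_eq, ← gauss_prod h.two (Q := fun a : W => Q (a : V)) (Q' := fun b : U => Q (b : V))
      (R := fun p : W × U => Q (f p)) (fun a b => by
        show Q ((a : V) + (b : V)) = _
        rw [h.qadd, ho _ a.2 _ b.2, add_zero])]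
    exact (gauss_equiv (Equiv.ofBijective f hf) fun p => rfl).symm
  · haveI := Fintype.ofFinite U
    rw [gW_eq]
    exact gauss_ne_zero h.two (B := (B.compl₂ U.subtype).comp U.subtype) (fun a b => by
      simp [h.qadd]) fun a ha => Subtype.ext (hU.nd h _ a.2 fun b hb => by simpa using ha ⟨b, hb⟩)

theorem gW_congr (h : CtxQ Q B x N) (h' : CtxQ Q B y N) {U U' : Submodule K V} {r : Multiset (Tag2 K)}
    (hU : FrameQ Q B x U r) (hU' : FrameQ Q B y U' r) : gW Q U = gW Q U' := by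
  haveI : FiniteDimensional K V := Module.Finite.of_finite
  haveI := Fintype.ofFinite U
  haveI := Fintype.ofFinite U'
  obtain ⟨T, hT⟩ := hU.exists_iso h h' hU'
  let f : U →ₗ[K] U' := LinearMap.codRestrict U' (T.comp U.subtype) fun u => hT.mapsTo _ u.2
  have hinj : Function.Injective f := by
    rw [← LinearMap.ker_eq_bot, LinearMap.ker_eq_bot']
    intro u hu
    refine Subtype.ext (hU.nd h _ u.2 fun w hw => ?_)
    have h0 : T (u : V) = 0 := congrArg Subtype.val hu
    rw [← hT.pres w hw _ u.2, h0, map_zero]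
  rw [gW_eq, gW_eq]
  exact gauss_equiv (LinearMap.linearEquivOfInjective f hinj (by rw [hU.finrank h, hU'.finrank h'])).toEquiv
    fun u => (hT.quad _ u.2).symm

theorem twin_absurd (h : CtxQ Q B x N) (h' : CtxQ Q B y N) {a b : Tag2 K} (hab : Twin a b) {r : Multiset (Tag2 K)}
    (hx : FrameQ Q B x ⊤ (a ::ₘ r)) (hy : FrameQ Q B y ⊤ (b ::ₘ r)) : False := by
  obtain ⟨W, U, hW, hU, e1, n1⟩ := gauss_frame h hx
  obtain ⟨W', U', hW', hU', e2, -⟩ := gauss_frame h' hy
  rw [← gW_congr h h' hU hU', e1] at e2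
  have e3 : gW Q W' = gW Q W := (mul_right_cancel₀ n1 e2).symm
  rcases hab with ⟨e, ho, rfl, rfl⟩ | ⟨e, rfl, rfl⟩
  · obtain ⟨z, w, hv, rfl⟩ := hW
    obtain ⟨z', w', hv', rfl⟩ := hW'.unip_plain
    exact gW_pair_ne h' h ho hv' hv e3
  · obtain ⟨v, hv, rfl⟩ := hW
    obtain ⟨v', hv', rfl⟩ := hW'
    exact gW_cyc_ne h' h hv' hv e3

/-- A nondegenerate form in dimension `2 n` has at most `15 q ^ n` classes. -/
theorem classes_upper (h2 : (2 : K) = 0) [FiniteDimensional K V] {Q : QuadraticForm K V} (hQ : PolarNondeg Q) {n : ℕ}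
    (hV : Module.finrank K V = 2 * n) :
    Nat.card (ConjClasses ↥(OQ (Q : V → K))) ≤ 15 * Fintype.card K ^ n := by
  classical
  set G := ↥(OQ (Q : V → K))
  haveI : Finite (V ≃ₗ[K] V) := Finite.of_injective (fun g : V ≃ₗ[K] V => (g : V → V)) DFunLike.coe_injective
  haveI : Finite G := Subtype.finite
  set B : V →ₗ[K] V →ₗ[K] K := QuadraticMap.polarBilin Q with hB
  have hBa : ∀ a b, B a b = Q (a + b) - Q a - Q b := fun a b => rfl
  let φ : G →* Module.End K V :=
    { toFun := fun g => g.1.toLinearMap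
      map_one' := rfl
      map_mul' := fun _ _ => rfl }
  have hctx : ∀ g : G, CtxQ (Q : V → K) B (φ g) (Nat.card G) := fun g =>
    { pos := Nat.card_pos
      pow_eq := by rw [← map_pow, pow_card_eq_one', map_one]
      iso := fun a b => by
        rw [hBa, hBa, ← map_add]
        show Q (g.1 (a + b)) - Q (g.1 a) - Q (g.1 b) = _
        rw [g.2, g.2, g.2]
      alt := fun a => by
        rw [hBa, QuadraticMap.map_add ⇑Q, polar_self]
        linear_combination (Q a) * h2
      two := h2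
      qadd := fun a b => by rw [hBa]; ring
      qsmul := fun c a => by rw [QuadraticMap.map_smul, smul_eq_mul]
      qinv := g.2 }
  have hnd : ∀ a, (∀ b, B b a = 0) → a = 0 := fun a ha => hQ a fun b => by
    rw [QuadraticMap.polar_comm]
    exact ha b
  have hframe : ∀ g : G, ∃ m, FrameQ (Q : V → K) B (φ g) ⊤ m ∧ Canon2 m := fun g =>
    exists_frameQ (hctx g) _ ⊤ le_rfl (fun u _ => trivial) fun u _ hz => hnd u fun w => hz w trivial
  choose M hM hcan using hframe
  have hT : ∀ g, InT n (M g) := fun g => ⟨(hM g).vtag, hcan g, by rw [← (hM g).finrank (hctx g), finrank_top, hV]⟩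
  obtain ⟨hfT, hcT⟩ := finite_inT h2 n
  obtain ⟨hfS, hcS⟩ := finite_plain h2 n
  let rep : ConjClasses G → G := fun c => c.exists_rep.choose
  have hMinj : ∀ c c', M (rep c) = M (rep c') → c = c' := by
    intro c c' he
    obtain ⟨T, hTc, hTq⟩ := exists_equiv_of_frameQ (hctx (rep c)) (hctx (rep c')) hnd (hM (rep c)) (he ▸ hM (rep c'))
    rw [← c.exists_rep.choose_spec, ← c'.exists_rep.choose_spec, ConjClasses.mk_eq_mk_iff_isConj]
    refine isConj_iff.mpr ⟨⟨T, hTq⟩, mul_inv_eq_iff_eq_mul.mpr (Subtype.ext (LinearEquiv.ext fun v => ?_))⟩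
    exact hTc v
  have hdis : ∀ g g', (∃ k, Hit (M g) k) → M g' ≠ tog (M g) := by
    intro g g' hh he
    obtain ⟨a, b, r, hab, e1, e2, -, -⟩ := tog_spec (hT g) hh
    have hx : FrameQ (Q : V → K) B (φ g) ⊤ (a ::ₘ r) := e1 ▸ hM g
    have hy : FrameQ (Q : V → K) B (φ g') ⊤ (b ::ₘ r) := e2 ▸ he ▸ hM g'
    rcases hab with hab | hab
    exacts [twin_absurd (hctx g) (hctx g') hab hx hy, twin_absurd (hctx g') (hctx g) hab hy hx]
  let F : ConjClasses G ⊕ ConjClasses G →
      {m : Multiset (Tag2 K) // InT n m} ⊕ {m : Multiset (Tag2 K) // InT n m ∧ ¬ ∃ k, Hit m k} := fun c =>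
    match c with
    | .inl c => .inl ⟨M (rep c), hT _⟩
    | .inr c =>
      if hh : ∃ k, Hit (M (rep c)) k then
        .inl ⟨tog (M (rep c)), by obtain ⟨_, _, _, _, _, _, h4, -⟩ := tog_spec (hT (rep c)) hh; exact h4⟩
      else .inr ⟨M (rep c), hT _, hh⟩
  have hFinj : Function.Injective F := by
    rintro (c | c) (c' | c') he
    · simp only [F, Sum.inl.injEq, Subtype.mk.injEq] at he
      rw [hMinj _ _ he]
    · simp only [F] at he
      split_ifs at he with hh
      simp only [Sum.inl.injEq, Subtype.mk.injEq] at he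
      exact absurd he (hdis _ _ hh)
    · simp only [F] at he
      split_ifs at he with hh
      simp only [Sum.inl.injEq, Subtype.mk.injEq] at he
      exact absurd he.symm (hdis _ _ hh)
    · simp only [F] at he
      split_ifs at he with hh hh'
      · simp only [Sum.inl.injEq, Subtype.mk.injEq] at he
        obtain ⟨_, _, _, _, _, _, -, i1⟩ := tog_spec (hT (rep c)) hh
        obtain ⟨_, _, _, _, _, _, -, i2⟩ := tog_spec (hT (rep c')) hh'
        rw [hMinj c c' (by rw [← i1, ← i2, he])]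
      · simp only [Sum.inr.injEq, Subtype.mk.injEq] at he
        rw [hMinj c c' he]
  have hle := Nat.card_le_card_of_injective F hFinj
  rw [Nat.card_sum, Nat.card_sum] at hle
  have hle' : (2 : ℚ) * Nat.card (ConjClasses G) ≤
      Nat.card {m : Multiset (Tag2 K) // InT n m} + Nat.card {m : Multiset (Tag2 K) // InT n m ∧ ¬ ∃ k, Hit m k} := by
    rw [two_mul]
    exact_mod_cast hle
  have hq : (0 : ℚ) ≤ (Fintype.card K : ℚ) ^ n := by positivity
  have : (Nat.card (ConjClasses G) : ℚ) ≤ 15 * (Fintype.card K : ℚ) ^ n := by linarith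
  exact_mod_cast this

end CfsgLib.IsometryTwoQ
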